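import Mathlib
import Cfsg.Agent.Lib.H50.BZD

/-! S2987, piece L2: abstract form (helper50). -/

set_option autoImplicit false
set_option maxHeartbeats 400000

namespace H50.BZ

open Subgroup

theorem lin_sl {F : Type*} [Field F] {p : ℕ} [Fact p.Prime] [CharP F p] (β : Equiv.Perm (Fin 2 → F))
    (ha : ∀ v w, β (v + w) = β v + β w) (hl : ∀ (l : F) v, β (l • v) = l • β v) {k : ℕ} (hp : β ^ (p ^ k) = 1)
    {v₀ : Fin 2 → F} (hv0 : v₀ ≠ 0) {c : F} (hc : β v₀ = c • v₀) :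
    β v₀ = v₀ ∧ ∃ g : Matrix.SpecialLinearGroup (Fin 2) F, ∀ v, β v = (g : Matrix (Fin 2) (Fin 2) F).mulVec v := by
  have key : ∀ d : F, d ^ (p ^ k) = 1 → d = 1 := by
    intro d hd
    have h1 : (d - 1) ^ (p ^ k) = 0 := by
      rw [sub_pow_char_pow, hd, one_pow, sub_self]
    exact sub_eq_zero.1 (pow_eq_zero_iff (pow_ne_zero _ (Fact.out : p.Prime).ne_zero) |>.1 h1)
  have h1 : ∀ m : ℕ, (β ^ m) v₀ = c ^ m • v₀ := by
    intro m
    induction m with
    | zero => simp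
    | succ m ih => rw [pow_succ', Equiv.Perm.mul_apply, ih, hl, hc, smul_smul, ← pow_succ]
  have hc1 : c = 1 := by
    apply key
    have h2 := h1 (p ^ k)
    rw [hp, Equiv.Perm.one_apply] at h2
    by_contra h3
    apply hv0
    have h4 : (c ^ (p ^ k) - 1) • v₀ = 0 := by rw [sub_smul, one_smul, ← h2, sub_self]
    exact (smul_eq_zero.1 h4).resolve_left (sub_ne_zero.2 h3)
  refine ⟨by rw [hc, hc1, one_smul], ?_⟩
  let L : (Fin 2 → F) →ₗ[F] (Fin 2 → F) := { toFun := β, map_add' := ha, map_smul' := hl }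
  have hL : ∀ m : ℕ, ∀ v, (L ^ m) v = (β ^ m) v := by
    intro m
    induction m with
    | zero => intro v; rfl
    | succ m ih =>
      intro v
      rw [pow_succ, pow_succ, Module.End.mul_apply, Equiv.Perm.mul_apply, ih]
      rfl
  have hL1 : L ^ (p ^ k) = 1 := by
    apply LinearMap.ext
    intro v
    rw [hL, hp]; rfl
  have hdet : LinearMap.det L = 1 := by
    apply key
    rw [← map_pow, hL1, map_one]
  refine ⟨⟨LinearMap.toMatrix' L, by rw [LinearMap.det_toMatrix', hdet]⟩, ?_⟩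
  intro v
  show L v = _
  rw [LinearMap.toMatrix'_mulVec]

theorem absL2 {G : Type*} [Group G] {F : Type*} [Field F] [Fintype F] {p : ℕ} [Fact p.Prime] [CharP F p]
    {U W J R : Subgroup G} [Finite R] (hWU : W ≤ U) (hWc : ∀ a ∈ W, ∀ b ∈ W, a * b = b * a)
    (ψ : ↥U →* Multiplicative (Fin 2 → F)) (v₀ : Fin 2 → F) (hv0 : v₀ ≠ 0)
    (hRp : IsPGroup p R) (hJR : J ≤ R) (hRJ : R ≤ normalizer (J : Set G)) (hRW : R ≤ normalizer (W : Set G))
    (hRU : R ≤ normalizer (U : Set G))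
    (X : ↥R →* Equiv.Perm (Fin 2 → F))
    (hX : ∀ (g : R) (u u' : U), (u' : G) = g * u * (g : G)⁻¹ → X g (Multiplicative.toAdd (ψ u)) = Multiplicative.toAdd (ψ u'))
    (hXa : ∀ g v w, X g (v + w) = X g v + X g w)
    (hsem : ∀ g, ∃ σ : F ≃+* F, ∀ (l : F) v, X g (l • v) = σ l • X g v)
    (hker : ∀ g : R, X g = 1 → ∀ w ∈ W, (g : G) * w = w * g)
    (hWs : ∀ v, ∃ w, ∃ hw : w ∈ W, Multiplicative.toAdd (ψ ⟨w, hWU hw⟩) = v)
    (hP1 : ∀ w (hw : w ∈ W), (w ∈ centralizer (J : Set G)) ↔ ∃ l : F, Multiplicative.toAdd (ψ ⟨w, hWU hw⟩) = l • v₀)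
    (hJ : ∀ g : Matrix.SpecialLinearGroup (Fin 2) F, (g : Matrix (Fin 2) (Fin 2) F).mulVec v₀ = v₀ →
      ∃ j ∈ J, ∀ u u' : U, (u' : G) = j * u * j⁻¹ →
        Multiplicative.toAdd (ψ u') = (g : Matrix (Fin 2) (Fin 2) F).mulVec (Multiplicative.toAdd (ψ u))) :
    ∃ w, ∃ hw : w ∈ W, w ∈ centralizer (R : Set G) ∧ ψ ⟨w, hWU hw⟩ ≠ 1 := by
  classical
  -- the group `P1`
  let P1 : Subgroup G := W ⊓ centralizer (J : Set G)
  have hP1W : P1 ≤ W := inf_le_left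
  letI : CommGroup P1 := { (inferInstance : Group P1) with
    mul_comm := fun a b => Subtype.ext (hWc a (hP1W a.2) b (hP1W b.2)) }
  have hRJ' : ∀ r ∈ R, ∀ j ∈ J, r⁻¹ * j * r ∈ J := by
    intro r hr j hj
    have h1 := (mem_normalizer_iff.1 (hRJ (inv_mem hr)) j).1 hj
    rwa [inv_inv] at h1
  have hcj : ∀ r ∈ R, ∀ m ∈ P1, r * m * r⁻¹ ∈ P1 := by
    intro r hr m hm
    obtain ⟨hm1, hm2⟩ := mem_inf.1 hm
    refine mem_inf.2 ⟨(mem_normalizer_iff.1 (hRW hr) m).1 hm1, ?_⟩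
    rw [mem_centralizer_iff] at hm2 ⊢
    intro j hj
    have h1 := hm2 _ (hRJ' r hr j hj)
    calc j * (r * m * r⁻¹) = r * ((r⁻¹ * j * r) * m) * r⁻¹ := by group
      _ = r * (m * (r⁻¹ * j * r)) * r⁻¹ := by rw [h1]
      _ = _ := by group
  have hcj' : ∀ r ∈ R, ∀ m ∈ P1, r⁻¹ * m * r ∈ P1 := by
    intro r hr m hm
    have h1 := hcj r⁻¹ (inv_mem hr) m hm
    rwa [inv_inv] at h1
  let a : ↥R →* MulAut P1 :=
    { toFun := fun r =>
        { toFun := fun m => ⟨r * m * (r : G)⁻¹, hcj r r.2 m m.2⟩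
          invFun := fun m => ⟨(r : G)⁻¹ * m * r, hcj' r r.2 m m.2⟩
          left_inv := fun m => Subtype.ext (by
            show (r : G)⁻¹ * (r * m * (r : G)⁻¹) * r = m
            group)
          right_inv := fun m => Subtype.ext (by
            show (r : G) * ((r : G)⁻¹ * m * r) * (r : G)⁻¹ = m
            group)
          map_mul' := fun m m' => Subtype.ext (by
            show (r : G) * (m * m') * (r : G)⁻¹ = r * m * (r : G)⁻¹ * (r * m' * (r : G)⁻¹)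
            group) }
      map_one' := MulEquiv.ext (fun m => Subtype.ext (by
        show (1 : G) * m * (1 : G)⁻¹ = m
        group))
      map_mul' := fun r s => MulEquiv.ext (fun m => Subtype.ext (by
        show (r * s : G) * m * (r * s : G)⁻¹ = r * (s * m * (s : G)⁻¹) * (r : G)⁻¹
        group)) }
  have haa : ∀ (r : ↥R) (m : P1), ((a r m : P1) : G) = r * m * (r : G)⁻¹ := fun r m => rfl
  -- coordinates
  have hφ : ∀ m : P1, ∃ l : F, Multiplicative.toAdd (ψ ⟨m, hWU (hP1W m.2)⟩) = l • v₀ := fun m =>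
    (hP1 m (hP1W m.2)).1 (mem_inf.1 m.2).2
  choose φ hφ using hφ
  have huni : ∀ l l' : F, l • v₀ = l' • v₀ → l = l' := by
    intro l l' h
    exact smul_left_injective F hv0 h
  have hφm : ∀ x y : P1, φ (x * y) = φ x + φ y := by
    intro x y
    apply huni
    rw [← hφ, add_smul, ← hφ, ← hφ, ← toAdd_mul, ← map_mul]
    rfl
  have hφs : Function.Surjective φ := by
    intro l
    obtain ⟨w, hw, h1⟩ := hWs (l • v₀)
    have h2 : w ∈ P1 := mem_inf.2 ⟨hw, (hP1 w hw).2 ⟨l, h1⟩⟩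
    refine ⟨⟨w, h2⟩, ?_⟩
    apply huni
    rw [← hφ]
    exact h1
  choose σ hσ using hsem
  have hX0 : ∀ g, X g 0 = 0 := by
    intro g
    have h1 := hXa g 0 0
    rw [add_zero] at h1
    exact left_eq_add.1 h1
  have hXn : ∀ g v, v ≠ 0 → X g v ≠ 0 := by
    intro g v hv h1
    apply hv
    rw [← hX0 g] at h1
    exact (X g).injective h1
  have hσu : ∀ (g : ↥R) (τ : F ≃+* F), (∀ (l : F) v, X g (l • v) = τ l • X g v) → σ g = τ := by
    intro g τ h1
    ext l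
    have h2 := hσ g l v₀
    rw [h1] at h2
    exact (smul_left_injective F (hXn g v₀ hv0) h2).symm
  have hσm : ∀ r s, σ (r * s) = (σ s).trans (σ r) := by
    intro r s
    apply hσu
    intro l v
    rw [map_mul, Equiv.Perm.mul_apply, hσ s, hσ r]
    rfl
  obtain ⟨m0, hm0⟩ := hφs 1
  have hm0' : Multiplicative.toAdd (ψ ⟨m0, hWU (hP1W m0.2)⟩) = v₀ := by rw [hφ, hm0, one_smul]
  have hXφ : ∀ (r : ↥R) (m : P1), X r (φ m • v₀) = φ (a r m) • v₀ := by
    intro r m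
    rw [← hφ, ← hφ]
    exact hX r _ _ rfl
  have hc : ∀ r : ↥R, X r v₀ = φ (a r m0) • v₀ := by
    intro r
    have h1 := hXφ r m0
    rwa [hm0, one_smul] at h1
  have hc0 : ∀ r : ↥R, φ (a r m0) ≠ 0 := by
    intro r h1
    apply hXn r v₀ hv0
    rw [hc, h1, zero_smul]
  have hac : ∀ (r : ↥R) (m : P1), φ (a r m) = φ (a r m0) * σ r (φ m) := by
    intro r m
    apply huni
    rw [← hXφ, hσ, hc, smul_smul, mul_comm]
  have hK : ∀ r : ↥R, σ r = RingEquiv.refl F → ∀ m : P1, a r m = m := by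
    intro r h1 m
    obtain ⟨k, hk⟩ := hRp r
    have h2 : (X r) ^ (p ^ k) = 1 := by rw [← map_pow, hk, map_one]
    obtain ⟨h3, g, hg⟩ := lin_sl (X r) (hXa r) (fun l v => by rw [hσ, h1]; rfl) h2 hv0 (hc r)
    obtain ⟨j, hj, hj2⟩ := hJ g (by rw [← hg]; exact h3)
    -- `j⁻¹ r` acts trivially
    have h4 : X (⟨j, hJR hj⟩⁻¹ * r) = 1 := by
      have h5 : X ⟨j, hJR hj⟩ = X r := by
        ext1 v
        obtain ⟨w, hw, hwv⟩ := hWs v
        have h6 : j * w * j⁻¹ ∈ U := (mem_normalizer_iff.1 (hRU (hJR hj)) w).1 (hWU hw)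
        have h7 := hX ⟨j, hJR hj⟩ ⟨w, hWU hw⟩ ⟨_, h6⟩ rfl
        rw [hj2 ⟨w, hWU hw⟩ ⟨_, h6⟩ rfl, ← hg] at h7
        rw [← hwv]
        exact h7
      rw [map_mul, map_inv, h5, inv_mul_cancel]
    have h5 := hker _ h4 m (hP1W m.2)
    have h6 : j * (m : G) = m * j := mem_centralizer_iff.1 (mem_inf.1 m.2).2 j hj
    apply Subtype.ext
    rw [haa]
    have h7 : (j⁻¹ * (r : G)) * m = m * (j⁻¹ * r) := h5
    calc (r : G) * m * (r : G)⁻¹ = j * ((j⁻¹ * (r : G)) * m) * (r : G)⁻¹ := by group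
      _ = j * (m * (j⁻¹ * r)) * (r : G)⁻¹ := by rw [h7]
      _ = (j * m) * j⁻¹ := by group
      _ = m := by rw [h6]; group
  obtain ⟨m, hm1, hm2⟩ := fixpt a φ hφm hφs σ hσm (fun r => φ (a r m0)) hc0 hac hK
  refine ⟨m, hP1W m.2, ?_, ?_⟩
  · rw [mem_centralizer_iff]
    intro r hr
    have h1 := congrArg Subtype.val (hm1 ⟨r, hr⟩)
    have h2 : r * (m : G) * r⁻¹ = m := h1
    calc r * (m : G) = (r * m * r⁻¹) * r := by group
      _ = m * r := by rw [h2]
  · intro h1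
    apply hm2
    apply huni
    rw [← hφ, h1, zero_smul]
    rfl

end H50.BZ
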