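import Mathlib

/-!
Squares of a semisimple class in the projective symplectic group of degree four: two by two matrices.
-/
set_option autoImplicit false
set_option linter.unusedSectionVars false
set_option linter.unusedVariables false
set_option maxHeartbeats 400000

namespace H50.PSpSq

open Matrix

universe u

variable {F : Type u} [Field F]

/-- parameters of the class -/
structure Par (τ ν : F) : Prop where
  t0 : τ ≠ 0
  n1 : ν ≠ 1
  irr : ∀ c : F, c ^ 2 - τ * c + ν ≠ 0

theorem Par.n0 {τ ν : F} (h : Par τ ν) : ν ≠ 0 := by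
  have := h.irr 0
  intro h0; apply this; rw [h0]; ring

theorem exists_par [Fintype F] (h3 : 3 ≤ Fintype.card F) : ∃ τ ν : F, Par τ ν := by
  classical
  by_cases h2 : (2 : F) = 0
  · -- characteristic two
    have hadd : ∀ a : F, a + a = 0 := fun a => by rw [← two_mul, h2, zero_mul]
    have hinj : ¬ Function.Injective (fun c : F => c ^ 2 + c) := by
      intro h
      have h1 : (0 : F) = 1 := h (by show (0 : F) ^ 2 + 0 = 1 ^ 2 + 1; rw [one_pow, hadd]; ring)
      exact zero_ne_one h1
    have hsurj : ¬ Function.Surjective (fun c : F => c ^ 2 + c) := fun h => hinj (Finite.injective_iff_surjective.2 h)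
    unfold Function.Surjective at hsurj
    push Not at hsurj
    obtain ⟨ν₀, hν₀⟩ := hsurj
    -- an element different from 0 and 1
    obtain ⟨c, hc0, hc1⟩ : ∃ c : F, c ≠ 0 ∧ c ≠ 1 := by
      by_contra hcon
      push Not at hcon
      have h1 : Fintype.card F ≤ ({0, 1} : Finset F).card := by
        rw [← Finset.card_univ]
        apply Finset.card_le_card
        intro x _
        rw [Finset.mem_insert, Finset.mem_singleton]
        by_cases hx : x = 0
        · exact Or.inl hx
        · exact Or.inr (hcon x hx)
      have h4 : ({0, 1} : Finset F).card ≤ 2 := Finset.card_le_two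
      omega
    by_cases h1 : ν₀ = 1
    · refine ⟨1, 1 + (c ^ 2 + c), one_ne_zero, ?_, ?_⟩
      · intro h
        have h5 : c * (c + 1) = 0 := by linear_combination h
        rcases mul_eq_zero.1 h5 with h6 | h6
        · exact hc0 h6
        · apply hc1
          linear_combination h6 - hadd 1
      · intro d hd
        apply hν₀ (c + d)
        rw [h1]
        linear_combination hd + c * d * h2 + d * h2 - h2
    · refine ⟨1, ν₀, one_ne_zero, h1, ?_⟩
      intro d hd
      apply hν₀ d
      show d ^ 2 + d = ν₀
      linear_combination hd + d * h2 - ν₀ * h2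
  · -- odd characteristic
    have hch : ringChar F ≠ 2 := by
      intro h
      apply h2
      have := ringChar.Nat.cast_ringChar (R := F)
      rw [h] at this
      exact_mod_cast this
    obtain ⟨n, hn⟩ := FiniteField.exists_nonsquare hch
    refine ⟨2, 1 - n, h2, ?_, ?_⟩
    · intro h
      apply hn
      have : n = 0 := by linear_combination -h
      rw [this]; exact IsSquare.zero
    · intro c hc
      apply hn
      refine ⟨c - 1, ?_⟩
      linear_combination -hc

/-- the companion matrix -/
def comp (τ ν : F) : Matrix (Fin 2) (Fin 2) F := !![0, -ν; 1, τ]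

theorem cayley (A : Matrix (Fin 2) (Fin 2) F) : A * A = A.trace • A - A.det • (1 : Matrix (Fin 2) (Fin 2) F) := by
  rw [Matrix.det_fin_two, Matrix.trace_fin_two]
  ext i j
  fin_cases i <;> fin_cases j <;> simp [Matrix.mul_apply, Fin.sum_univ_two] <;> ring

/-- the kernel of the twisted action on symmetric matrices -/
theorem sym_kernel {τ ν : F} (h : Par τ ν) {A D : Matrix (Fin 2) (Fin 2) F} (htr : A.trace = τ) (hdet : A.det = ν)
    (hD : Dᵀ = D) (hA : Aᵀ * D * A = D) : D = 0 := by
  have hc := cayley A
  rw [htr, hdet] at hc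
  have e1 : ν • (Aᵀ * D) = τ • D - D * A := by
    have h1 : Aᵀ * D * (A * A) = D * A := by rw [← mul_assoc, hA]
    rw [hc, mul_sub, mul_smul_comm, mul_smul_comm, hA, mul_one] at h1
    rw [← h1]; abel
  have e2 : ν • (D * A) = τ • D - Aᵀ * D := by
    have h1 := congrArg Matrix.transpose e1
    rw [transpose_smul, transpose_mul, transpose_transpose, hD, transpose_sub, transpose_smul, hD, transpose_mul, hD] at h1
    exact h1
  have e3 : D * A = Aᵀ * D := by
    have h1 : (ν - 1) • (D * A - Aᵀ * D) = 0 := by
      rw [smul_sub, sub_smul, sub_smul, e1, e2, one_smul, one_smul]; abel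
    rcases smul_eq_zero.1 h1 with h2 | h2
    · exact absurd (sub_eq_zero.1 h2) h.n1
    · exact sub_eq_zero.1 h2
  rw [← e3] at e2
  have e4 : (ν + 1) • (D * A) = τ • D := by rw [add_smul, e2, one_smul]; abel
  by_cases h1 : ν + 1 = 0
  · rw [h1, zero_smul] at e4
    exact (smul_eq_zero.1 e4.symm).resolve_left h.t0
  · have e5 : D * (A - (τ / (ν + 1)) • (1 : Matrix (Fin 2) (Fin 2) F)) = 0 := by
      rw [mul_sub, mul_smul_comm, mul_one]
      have h2 : D * A = (τ / (ν + 1)) • D := by
        rw [div_eq_inv_mul, mul_smul, ← e4, smul_smul, inv_mul_cancel₀ h1, one_smul]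
      rw [h2, sub_self]
    have h3 : (A - (τ / (ν + 1)) • (1 : Matrix (Fin 2) (Fin 2) F)).det ≠ 0 := by
      have h4 : (A - (τ / (ν + 1)) • (1 : Matrix (Fin 2) (Fin 2) F)).det = (τ / (ν + 1)) ^ 2 - τ * (τ / (ν + 1)) + ν := by
        rw [← htr, ← hdet, Matrix.det_fin_two, Matrix.det_fin_two, Matrix.trace_fin_two]
        simp
        ring
      rw [h4]
      exact h.irr _
    have h5 : IsUnit (A - (τ / (ν + 1)) • (1 : Matrix (Fin 2) (Fin 2) F)) :=
      (Matrix.isUnit_iff_isUnit_det _).2 (isUnit_iff_ne_zero.2 h3)
    obtain ⟨U, hU⟩ := h5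
    rw [← hU] at e5
    calc D = D * (U : Matrix (Fin 2) (Fin 2) F) * ((U⁻¹ : (Matrix (Fin 2) (Fin 2) F)ˣ) : Matrix (Fin 2) (Fin 2) F) := by
            rw [mul_assoc, ← Units.val_mul, mul_inv_cancel, Units.val_one, mul_one]
      _ = 0 := by rw [e5, zero_mul]

/-- points of the conic -/
theorem conic [Fintype F] {τ ν : F} (h : Par τ ν) {s : F} (hs : s ≠ 2 * ν) :
    ∃ a c : F, a ^ 2 + s * a * c + ν ^ 2 * c ^ 2 - τ * a - τ * ν * c + ν = 0 := by
  have hn0 := h.n0
  have ht0 := h.t0
  by_cases h2 : (2 : F) = 0
  · -- characteristic two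
    have hs0 : s ≠ 0 := by rwa [h2, zero_mul] at hs
    have hch : ringChar F = 2 := by
      have h3 : ringChar F ∣ 2 := (ringChar.spec F 2).1 (by exact_mod_cast h2)
      rcases (Nat.dvd_prime Nat.prime_two).1 h3 with h4 | h4
      · exact absurd h4 (CharP.char_ne_one F (ringChar F))
      · exact h4
    obtain ⟨r, hr⟩ := FiniteField.isSquare_of_char_two hch (ν * (τ ^ 2 + s) / s)
    refine ⟨r + τ * ν / s, τ / s, ?_⟩
    have hr' : r * r * s = ν * (τ ^ 2 + s) := by
      rw [← hr]; field_simp
    field_simp
    linear_combination s * hr' + (r * s * τ * ν + s ^ 2 * ν + τ ^ 2 * ν ^ 2) * h2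
  · by_cases hs2 : s + 2 * ν = 0
    · refine ⟨ν / (2 * τ), 1 / (2 * τ), ?_⟩
      have : s = -(2 * ν) := by linear_combination hs2
      rw [this]
      field_simp
      ring
    · have h4 : (4 : F) ≠ 0 := by
        have : (4 : F) = 2 * 2 := by norm_num
        rw [this]; exact mul_ne_zero h2 h2
      obtain ⟨σ, hσ⟩ : ∃ σ, σ = s + 2 * ν := ⟨_, rfl⟩
      have hs' : s = σ - 2 * ν := by rw [hσ]; ring
      rw [← hσ] at hs2
      subst hs'
      clear hσ
      obtain ⟨α, β, hαβ⟩ := FiniteField.exists_root_sum_quadratic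
        (f := (Polynomial.X ^ 2 + Polynomial.C (ν * (σ - τ ^ 2) / σ) : Polynomial F))
        (g := (Polynomial.C (ν ^ 2 - (σ - 2 * ν) ^ 2 / 4) * Polynomial.X ^ 2 : Polynomial F)) (by
          apply Polynomial.degree_X_pow_add_C; norm_num) (by
          rw [Polynomial.degree_C_mul_X_pow]
          · rfl
          · intro h5
            have h6 : (4 * ν - σ) * σ = 0 := by
              field_simp at h5
              linear_combination h5
            rcases mul_eq_zero.1 h6 with h7 | h7
            · exact hs (by linear_combination -h7)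
            · exact hs2 h7) (by
          apply FiniteField.odd_card_of_char_ne_two
          intro h5
          apply h2
          have := ringChar.Nat.cast_ringChar (R := F)
          rw [h5] at this
          exact_mod_cast this)
      simp only [Polynomial.eval_add, Polynomial.eval_pow, Polynomial.eval_X, Polynomial.eval_C, Polynomial.eval_mul] at hαβ
      refine ⟨α - (σ - 2 * ν) * β / 2 + ν * τ / σ, β + τ / σ, ?_⟩
      field_simp at hαβ ⊢
      linear_combination σ * hαβ

end H50.PSpSq
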