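import Cfsg.Agent.Lib.H50.PSpSq1
import Cfsg.Agent.Lib.H6.Symp

/-!
Squares of a semisimple class in the projective symplectic group of degree four: block matrices.
-/
set_option autoImplicit false
set_option linter.unusedSectionVars false
set_option linter.unusedVariables false
set_option maxHeartbeats 400000

namespace H50.PSpSq

open Matrix

universe u

variable {F : Type u} [Field F]

abbrev M2 (F : Type u) := Matrix (Fin 2) (Fin 2) F

abbrev SG4 (F : Type u) [Field F] : Type u := ↥(Matrix.symplecticGroup (Fin 2) F)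

lemma mul_inv_coe (G : GL (Fin 2) F) : (G : M2 F) * ((G⁻¹ : GL (Fin 2) F) : M2 F) = 1 := by
  rw [← Units.val_mul, mul_inv_cancel, Units.val_one]

lemma inv_mul_coe (G : GL (Fin 2) F) : ((G⁻¹ : GL (Fin 2) F) : M2 F) * (G : M2 F) = 1 := by
  rw [← Units.val_mul, inv_mul_cancel, Units.val_one]

/-- the Levi subgroup -/
def mm (G : GL (Fin 2) F) : SG4 F :=
  ⟨fromBlocks (G : M2 F) 0 0 ((G⁻¹ : GL (Fin 2) F) : M2 F)ᵀ, by
    rw [SymplecticGroup.mem_iff', Matrix.J, fromBlocks_transpose, fromBlocks_multiply, fromBlocks_multiply]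
    simp only [transpose_zero, mul_zero, zero_mul, add_zero, zero_add, transpose_transpose, mul_one, mul_neg, neg_mul]
    rw [← transpose_mul, inv_mul_coe, transpose_one, neg_zero]⟩

lemma mm_val (G : GL (Fin 2) F) : (mm G).1 = fromBlocks (G : M2 F) 0 0 ((G⁻¹ : GL (Fin 2) F) : M2 F)ᵀ := rfl

lemma mm_mul (G H : GL (Fin 2) F) : mm (G * H) = mm G * mm H := by
  apply Subtype.ext
  show fromBlocks _ _ _ _ = fromBlocks _ _ _ _ * fromBlocks _ _ _ _
  rw [fromBlocks_multiply, _root_.mul_inv_rev, Units.val_mul, Units.val_mul, transpose_mul]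
  simp

lemma mm_one : mm (1 : GL (Fin 2) F) = 1 := by
  apply Subtype.ext
  show fromBlocks _ _ _ _ = (1 : Matrix (Fin 2 ⊕ Fin 2) (Fin 2 ⊕ Fin 2) F)
  rw [inv_one, Units.val_one, transpose_one, fromBlocks_one]

lemma mm_inv (G : GL (Fin 2) F) : mm G⁻¹ = (mm G)⁻¹ := by
  rw [eq_inv_iff_mul_eq_one, ← mm_mul, inv_mul_cancel, mm_one]

/-- lower unipotent elements -/
def low (C : M2 F) (hC : Cᵀ = C) : SG4 F :=
  ⟨fromBlocks 1 0 C 1, by
    rw [SymplecticGroup.mem_iff', Matrix.J, fromBlocks_transpose, fromBlocks_multiply, fromBlocks_multiply]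
    simp [hC]⟩

/-- upper unipotent elements -/
def upp (B : M2 F) (hB : Bᵀ = B) : SG4 F :=
  ⟨fromBlocks 1 B 0 1, by
    rw [SymplecticGroup.mem_iff', Matrix.J, fromBlocks_transpose, fromBlocks_multiply, fromBlocks_multiply]
    simp [hB]⟩

lemma low_val (C : M2 F) (hC : Cᵀ = C) : (low C hC).1 = fromBlocks 1 0 C 1 := rfl

lemma upp_val (B : M2 F) (hB : Bᵀ = B) : (upp B hB).1 = fromBlocks 1 B 0 1 := rfl

/-- surjectivity on symmetric matrices -/
theorem sym_surj [Finite F] {T : M2 F → M2 F} (h1 : ∀ D, Dᵀ = D → (T D)ᵀ = T D) (h2 : ∀ D D', T (D - D') = T D - T D')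
    (h3 : ∀ D, Dᵀ = D → T D = 0 → D = 0) (C : M2 F) (hC : Cᵀ = C) : ∃ D, Dᵀ = D ∧ T D = C := by
  let S := {D : M2 F // Dᵀ = D}
  let T' : S → S := fun D => ⟨T D.1, h1 D.1 D.2⟩
  have hinj : Function.Injective T' := by
    rintro ⟨D, hD⟩ ⟨D', hD'⟩ h
    have h4 : T D = T D' := congrArg Subtype.val h
    have h5 : D - D' = 0 := h3 _ (by rw [transpose_sub, hD, hD']) (by rw [h2, h4, sub_self])
    exact Subtype.ext (sub_eq_zero.1 h5)
  obtain ⟨⟨D, hD⟩, h6⟩ := (Finite.injective_iff_surjective.1 hinj) ⟨C, hC⟩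
  exact ⟨D, hD, congrArg Subtype.val h6⟩

lemma trace_transpose' (A : M2 F) : Aᵀ.trace = A.trace := Matrix.trace_transpose A

/-- elements of the coset of the opposite radical are conjugate -/
theorem low_conj [Finite F] {τ ν : F} (h : Par τ ν) {A : GL (Fin 2) F} (htr : (A : M2 F).trace = τ) (hdet : (A : M2 F).det = ν)
    (C : M2 F) (hC : Cᵀ = C) : ∃ w : SG4 F, low C hC * mm A = w * mm A * w⁻¹ := by
  obtain ⟨D, hD, hDC⟩ := sym_surj (T := fun D => D - ((A⁻¹ : GL (Fin 2) F) : M2 F)ᵀ * D * ((A⁻¹ : GL (Fin 2) F) : M2 F))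
    (by
      intro D hD
      rw [transpose_sub, transpose_mul, transpose_mul, transpose_transpose, hD, mul_assoc])
    (by
      intro D D'
      simp only [mul_sub, sub_mul]; abel)
    (by
      intro D hD h0
      apply sym_kernel h htr hdet hD
      have h1 : D = ((A⁻¹ : GL (Fin 2) F) : M2 F)ᵀ * D * ((A⁻¹ : GL (Fin 2) F) : M2 F) := sub_eq_zero.1 h0
      have h2 : (A : M2 F)ᵀ * ((A⁻¹ : GL (Fin 2) F) : M2 F)ᵀ = 1 := by
        rw [← transpose_mul, inv_mul_coe, transpose_one]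
      calc (A : M2 F)ᵀ * D * (A : M2 F) = (A : M2 F)ᵀ * (((A⁻¹ : GL (Fin 2) F) : M2 F)ᵀ * D * ((A⁻¹ : GL (Fin 2) F) : M2 F)) * (A : M2 F) := by
              rw [← h1]
        _ = ((A : M2 F)ᵀ * ((A⁻¹ : GL (Fin 2) F) : M2 F)ᵀ) * D * (((A⁻¹ : GL (Fin 2) F) : M2 F) * (A : M2 F)) := by
              simp only [mul_assoc]
        _ = D := by rw [h2, inv_mul_coe, one_mul, mul_one]) C hC
  refine ⟨low D hD, ?_⟩
  rw [eq_mul_inv_iff_mul_eq]
  apply Subtype.ext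
  show fromBlocks 1 0 C 1 * fromBlocks (A : M2 F) 0 0 ((A⁻¹ : GL (Fin 2) F) : M2 F)ᵀ * fromBlocks 1 0 D 1 =
    fromBlocks 1 0 D 1 * fromBlocks (A : M2 F) 0 0 ((A⁻¹ : GL (Fin 2) F) : M2 F)ᵀ
  rw [fromBlocks_multiply, fromBlocks_multiply, fromBlocks_multiply]
  simp only [mul_one, one_mul, mul_zero, zero_mul, add_zero, zero_add]
  congr 1
  have h1 : C = D - ((A⁻¹ : GL (Fin 2) F) : M2 F)ᵀ * D * ((A⁻¹ : GL (Fin 2) F) : M2 F) := hDC.symm
  rw [h1, sub_mul, mul_assoc _ ((A⁻¹ : GL (Fin 2) F) : M2 F) (A : M2 F), inv_mul_coe, mul_one]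
  abel

/-- elements of the coset of the radical are conjugate -/
theorem upp_conj [Finite F] {τ ν : F} (h : Par τ ν) {A : GL (Fin 2) F} (htr : (A : M2 F).trace = τ) (hdet : (A : M2 F).det = ν)
    (B : M2 F) (hB : Bᵀ = B) : ∃ w : SG4 F, mm A * upp B hB = w * mm A * w⁻¹ := by
  obtain ⟨D, hD, hDB⟩ := sym_surj (T := fun D => ((A⁻¹ : GL (Fin 2) F) : M2 F) * D * ((A⁻¹ : GL (Fin 2) F) : M2 F)ᵀ - D)
    (by
      intro D hD
      rw [transpose_sub, transpose_mul, transpose_mul, transpose_transpose, hD, mul_assoc])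
    (by
      intro D D'
      simp only [mul_sub, sub_mul]; abel)
    (by
      intro D hD h0
      apply sym_kernel (A := (A : M2 F)ᵀ) h (by rw [trace_transpose', htr]) (by rw [det_transpose, hdet]) hD
      have h1 : ((A⁻¹ : GL (Fin 2) F) : M2 F) * D * ((A⁻¹ : GL (Fin 2) F) : M2 F)ᵀ = D := sub_eq_zero.1 h0
      have h2 : ((A⁻¹ : GL (Fin 2) F) : M2 F)ᵀ * (A : M2 F)ᵀ = 1 := by
        rw [← transpose_mul, mul_inv_coe, transpose_one]
      rw [transpose_transpose]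
      calc (A : M2 F) * D * (A : M2 F)ᵀ = (A : M2 F) * (((A⁻¹ : GL (Fin 2) F) : M2 F) * D * ((A⁻¹ : GL (Fin 2) F) : M2 F)ᵀ) * (A : M2 F)ᵀ := by
              rw [h1]
        _ = ((A : M2 F) * ((A⁻¹ : GL (Fin 2) F) : M2 F)) * D * (((A⁻¹ : GL (Fin 2) F) : M2 F)ᵀ * (A : M2 F)ᵀ) := by
              simp only [mul_assoc]
        _ = D := by rw [h2, mul_inv_coe, one_mul, mul_one]) B hB
  refine ⟨upp D hD, ?_⟩
  rw [eq_mul_inv_iff_mul_eq]
  apply Subtype.ext
  show fromBlocks (A : M2 F) 0 0 ((A⁻¹ : GL (Fin 2) F) : M2 F)ᵀ * fromBlocks 1 B 0 1 * fromBlocks 1 D 0 1 =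
    fromBlocks 1 D 0 1 * fromBlocks (A : M2 F) 0 0 ((A⁻¹ : GL (Fin 2) F) : M2 F)ᵀ
  rw [fromBlocks_multiply, fromBlocks_multiply, fromBlocks_multiply]
  simp only [mul_one, one_mul, mul_zero, zero_mul, add_zero, zero_add]
  congr 1
  have h1 : B = ((A⁻¹ : GL (Fin 2) F) : M2 F) * D * ((A⁻¹ : GL (Fin 2) F) : M2 F)ᵀ - D := hDB.symm
  rw [h1, mul_sub, mul_assoc ((A⁻¹ : GL (Fin 2) F) : M2 F), ← mul_assoc (A : M2 F), mul_inv_coe, one_mul]
  abel

/-- matrices with a non-zero lower left entry are conjugate to the companion matrix -/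
theorem conj_comp {M : M2 F} (h : M 1 0 ≠ 0) : ∃ G : GL (Fin 2) F, M * (G : M2 F) = (G : M2 F) * comp M.trace M.det := by
  refine ⟨Matrix.GeneralLinearGroup.mkOfDetNeZero !![1, M 0 0; 0, M 1 0] (by rw [det_fin_two_of]; simpa using h), ?_⟩
  show M * !![1, M 0 0; 0, M 1 0] = !![1, M 0 0; 0, M 1 0] * comp M.trace M.det
  rw [comp, Matrix.det_fin_two, Matrix.trace_fin_two]
  ext i j
  fin_cases i <;> fin_cases j <;> simp [Matrix.mul_apply, Fin.sum_univ_two] <;> ring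

/-- the same if the upper right entry does not vanish -/
theorem conj_comp' {M : M2 F} (h : M 0 1 ≠ 0) : ∃ G : GL (Fin 2) F, M * (G : M2 F) = (G : M2 F) * comp M.trace M.det := by
  refine ⟨Matrix.GeneralLinearGroup.mkOfDetNeZero !![0, M 0 1; 1, M 1 1] (by rw [det_fin_two_of]; simpa using h), ?_⟩
  show M * !![0, M 0 1; 1, M 1 1] = !![0, M 0 1; 1, M 1 1] * comp M.trace M.det
  rw [comp, Matrix.det_fin_two, Matrix.trace_fin_two]
  ext i j
  fin_cases i <;> fin_cases j <;> simp [Matrix.mul_apply, Fin.sum_univ_two] <;> ring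

/-- the element of the class -/
noncomputable def AA {τ ν : F} (h : Par τ ν) : GL (Fin 2) F :=
  Matrix.GeneralLinearGroup.mkOfDetNeZero (comp τ ν) (by rw [comp, det_fin_two_of]; simpa using h.n0)

lemma AA_val {τ ν : F} (h : Par τ ν) : (AA h : M2 F) = comp τ ν := rfl

lemma comp_trace (τ ν : F) : (comp τ ν).trace = τ := by rw [comp, trace_fin_two_of]; ring

lemma comp_det (τ ν : F) : (comp τ ν).det = ν := by rw [comp, det_fin_two_of]; ring

/-- matrices with the given invariants are conjugate to the standard one -/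
theorem conj_AA {τ ν : F} (h : Par τ ν) {M : GL (Fin 2) F} (htr : (M : M2 F).trace = τ) (hdet : (M : M2 F).det = ν) :
    ∃ G : GL (Fin 2) F, M = G * AA h * G⁻¹ := by
  have h0 : (M : M2 F) 1 0 ≠ 0 := by
    intro h0
    rw [Matrix.trace_fin_two] at htr
    rw [Matrix.det_fin_two, h0, mul_zero, sub_zero] at hdet
    apply h.irr ((M : M2 F) 0 0)
    rw [← htr, ← hdet]; ring
  obtain ⟨G, hG⟩ := conj_comp h0
  refine ⟨G, ?_⟩
  rw [eq_mul_inv_iff_mul_eq]
  apply Units.ext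
  rw [Units.val_mul, Units.val_mul, hG, htr, hdet, AA_val]

/-- products of two conjugates of the standard element -/
theorem two_prod [Fintype F] {τ ν : F} (h : Par τ ν) {P : GL (Fin 2) F} (hns : (P : M2 F) 1 0 ≠ 0 ∨ (P : M2 F) 0 1 ≠ 0)
    (hdet : (P : M2 F).det = ν ^ 2) (htr : (P : M2 F).trace ≠ 2 * ν) :
    ∃ A₁ A₂ : GL (Fin 2) F, (A₁ : M2 F).trace = τ ∧ (A₁ : M2 F).det = ν ∧ (A₂ : M2 F).trace = τ ∧ (A₂ : M2 F).det = ν ∧
      P = A₁ * A₂ := by
  obtain ⟨a, c, hac⟩ := conic h htr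
  have hn0 := h.n0
  set s := (P : M2 F).trace with hs
  obtain ⟨G, hG⟩ : ∃ G : GL (Fin 2) F, (P : M2 F) * (G : M2 F) = (G : M2 F) * comp s (ν ^ 2) := by
    rw [← hdet]
    rcases hns with h1 | h1
    · exact conj_comp h1
    · exact conj_comp' h1
  let B : M2 F := !![a, c * ν ^ 2 + a * s - τ * ν; c, τ - a]
  have hBdet : B.det = ν := by
    show (!![a, c * ν ^ 2 + a * s - τ * ν; c, τ - a] : M2 F).det = ν
    rw [det_fin_two_of]; linear_combination -hac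
  have hBtr : B.trace = τ := by
    show (!![a, c * ν ^ 2 + a * s - τ * ν; c, τ - a] : M2 F).trace = τ
    rw [trace_fin_two_of]; ring
  let B₁ : GL (Fin 2) F := Matrix.GeneralLinearGroup.mkOfDetNeZero B (by rw [hBdet]; exact hn0)
  have hB₁ : (B₁ : M2 F) = B := rfl
  have hA₁ : ((G * B₁ * G⁻¹ : GL (Fin 2) F) : M2 F).trace = τ := by
    rw [Units.val_mul, Units.val_mul, Matrix.trace_mul_comm, ← mul_assoc, inv_mul_coe, one_mul, hB₁, hBtr]
  have hdetG : (G : M2 F).det * ((G⁻¹ : GL (Fin 2) F) : M2 F).det = 1 := by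
    rw [← det_mul, mul_inv_coe, det_one]
  have hA₁' : ((G * B₁ * G⁻¹ : GL (Fin 2) F) : M2 F).det = ν := by
    rw [Units.val_mul, Units.val_mul, det_mul, det_mul, hB₁, hBdet]
    linear_combination ν * hdetG
  refine ⟨G * B₁ * G⁻¹, (G * B₁ * G⁻¹)⁻¹ * P, hA₁, hA₁', ?_, ?_, by rw [mul_inv_cancel_left]⟩
  · -- the trace
    have e1 : (((G * B₁ * G⁻¹)⁻¹ * P : GL (Fin 2) F) : M2 F).trace = (((B₁⁻¹ : GL (Fin 2) F) : M2 F) * comp s (ν ^ 2)).trace := by
      have e2 : (G * B₁ * G⁻¹)⁻¹ * P = G * (B₁⁻¹ * (G⁻¹ * P * G)) * G⁻¹ := by group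
      have e3 : ((G⁻¹ * P * G : GL (Fin 2) F) : M2 F) = comp s (ν ^ 2) := by
        rw [Units.val_mul, Units.val_mul, mul_assoc, hG, ← mul_assoc, inv_mul_coe, one_mul]
      rw [e2, Units.val_mul, Units.val_mul, Matrix.trace_mul_comm, ← mul_assoc, inv_mul_coe, one_mul, Units.val_mul, e3]
    have e4 : ((B₁⁻¹ : GL (Fin 2) F) : M2 F) = ν⁻¹ • (τ • (1 : M2 F) - B) := by
      have e5 : B * (ν⁻¹ • (τ • (1 : M2 F) - B)) = 1 := by
        have e6 := cayley B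
        rw [hBtr, hBdet] at e6
        rw [mul_smul_comm, mul_sub, e6, mul_smul_comm, mul_one, sub_sub_cancel, smul_smul, inv_mul_cancel₀ hn0, one_smul]
      calc ((B₁⁻¹ : GL (Fin 2) F) : M2 F) = ((B₁⁻¹ : GL (Fin 2) F) : M2 F) * ((B₁ : M2 F) * (ν⁻¹ • (τ • (1 : M2 F) - B))) := by
              rw [hB₁, e5, mul_one]
        _ = _ := by rw [← mul_assoc, inv_mul_coe, one_mul]
    rw [e1, e4]
    show ((ν⁻¹ • (τ • (1 : M2 F) - !![a, c * ν ^ 2 + a * s - τ * ν; c, τ - a])) * !![0, -(ν ^ 2); 1, s]).trace = τ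
    rw [Matrix.trace_fin_two]
    simp [Matrix.mul_apply, Fin.sum_univ_two]
    field_simp
    ring
  · have e1 : ((G * B₁ * G⁻¹ : GL (Fin 2) F) : M2 F).det * (((G * B₁ * G⁻¹)⁻¹ * P : GL (Fin 2) F) : M2 F).det = ν ^ 2 := by
      rw [← det_mul, ← Units.val_mul, mul_inv_cancel_left, hdet]
    rw [hA₁'] at e1
    have e2 : ν * ((((G * B₁ * G⁻¹)⁻¹ * P : GL (Fin 2) F) : M2 F).det - ν) = 0 := by linear_combination e1
    exact sub_eq_zero.1 ((mul_eq_zero.1 e2).resolve_left hn0)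

/-- block decomposition -/
theorem gauss {g : SG4 F} {P : GL (Fin 2) F} {Q R S : M2 F} (hg : g.1 = fromBlocks (P : M2 F) Q R S) :
    ∃ (C B : M2 F) (hC : Cᵀ = C) (hB : Bᵀ = B), g = low C hC * mm P * upp B hB := by
  have h1 := g.2
  rw [SymplecticGroup.mem_iff', hg, Matrix.J, fromBlocks_transpose, fromBlocks_multiply, fromBlocks_multiply] at h1
  simp only [mul_zero, zero_add, add_zero, mul_one, mul_neg] at h1
  rw [fromBlocks_inj] at h1
  obtain ⟨h2, h3, h4, h5⟩ := h1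
  -- R^T P symmetric
  have h6 : (R)ᵀ * (P : M2 F) = (P : M2 F)ᵀ * R := by
    have : Rᵀ * (P : M2 F) + -(P : M2 F)ᵀ * R = 0 := h2
    rw [neg_mul, ← sub_eq_add_neg, sub_eq_zero] at this
    exact this
  have hC : (R * ((P⁻¹ : GL (Fin 2) F) : M2 F))ᵀ = R * ((P⁻¹ : GL (Fin 2) F) : M2 F) := by
    have h7 : ((P⁻¹ : GL (Fin 2) F) : M2 F)ᵀ * (P : M2 F)ᵀ = 1 := by rw [← transpose_mul, mul_inv_coe, transpose_one]
    rw [transpose_mul]
    calc ((P⁻¹ : GL (Fin 2) F) : M2 F)ᵀ * Rᵀ = ((P⁻¹ : GL (Fin 2) F) : M2 F)ᵀ * (Rᵀ * (P : M2 F)) * ((P⁻¹ : GL (Fin 2) F) : M2 F) := by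
            rw [mul_assoc, mul_assoc, mul_inv_coe, mul_one]
      _ = (((P⁻¹ : GL (Fin 2) F) : M2 F)ᵀ * (P : M2 F)ᵀ) * R * ((P⁻¹ : GL (Fin 2) F) : M2 F) := by rw [h6]; simp only [mul_assoc]
      _ = _ := by rw [h7, one_mul]
  obtain ⟨g₁, hg₁⟩ : ∃ g₁ : SG4 F, g₁ = (mm P)⁻¹ * ((low _ hC)⁻¹ * g) := ⟨_, rfl⟩
  have hgg : g = low _ hC * mm P * g₁ := by rw [hg₁]; group
  -- the block form of g₁
  obtain ⟨a, b, c, d, habcd⟩ : ∃ a b c d : M2 F, g₁.1 = fromBlocks a b c d :=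
    ⟨_, _, _, _, (fromBlocks_toBlocks g₁.1).symm⟩
  have h8 : fromBlocks (P : M2 F) Q R S = fromBlocks 1 0 (R * ((P⁻¹ : GL (Fin 2) F) : M2 F)) 1 *
      fromBlocks (P : M2 F) 0 0 ((P⁻¹ : GL (Fin 2) F) : M2 F)ᵀ * fromBlocks a b c d := by
    rw [← habcd, ← hg, hgg]; rfl
  rw [fromBlocks_multiply, fromBlocks_multiply] at h8
  simp only [mul_one, one_mul, mul_zero, zero_mul, add_zero, zero_add] at h8
  rw [mul_assoc R, inv_mul_coe, mul_one, fromBlocks_inj] at h8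
  obtain ⟨k1, k2, k3, k4⟩ := h8
  have ha : a = 1 := by
    calc a = ((P⁻¹ : GL (Fin 2) F) : M2 F) * ((P : M2 F) * a) := by rw [← mul_assoc, inv_mul_coe, one_mul]
      _ = 1 := by rw [← k1, inv_mul_coe]
  have hc : c = 0 := by
    rw [ha, mul_one] at k3
    have h9 : ((P⁻¹ : GL (Fin 2) F) : M2 F)ᵀ * c = 0 := by
      have : R + ((P⁻¹ : GL (Fin 2) F) : M2 F)ᵀ * c = R + 0 := by rw [add_zero]; exact k3.symm
      exact add_left_cancel this
    have h10 : (P : M2 F)ᵀ * ((P⁻¹ : GL (Fin 2) F) : M2 F)ᵀ = 1 := by rw [← transpose_mul, inv_mul_coe, transpose_one]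
    calc c = (P : M2 F)ᵀ * (((P⁻¹ : GL (Fin 2) F) : M2 F)ᵀ * c) := by rw [← mul_assoc, h10, one_mul]
      _ = 0 := by rw [h9, mul_zero]
  have h11 := g₁.2
  rw [SymplecticGroup.mem_iff', habcd, ha, hc, Matrix.J, fromBlocks_transpose, fromBlocks_multiply, fromBlocks_multiply] at h11
  simp only [mul_zero, zero_add, add_zero, mul_one, one_mul, mul_neg, transpose_one, transpose_zero, zero_mul, neg_zero] at h11
  rw [fromBlocks_inj] at h11
  obtain ⟨-, l2, l3, l4⟩ := h11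
  have hd : d = 1 := by
    have : -(1 : M2 F) * d = -1 := l2
    rw [neg_mul, one_mul, neg_inj] at this
    exact this
  rw [hd] at l4
  have hb : bᵀ = b := by
    have l5 : (1 : M2 F)ᵀ * b + -bᵀ * 1 = 0 := l4
    rw [transpose_one, one_mul, mul_one, ← sub_eq_add_neg, sub_eq_zero] at l5
    exact l5.symm
  refine ⟨_, b, hC, hb, ?_⟩
  rw [hgg]
  congr 1
  apply Subtype.ext
  rw [habcd, ha, hc, hd]; rfl

end H50.PSpSq
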