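import Cfsg.Agent.Lib.H50.PSpSq2
import Cfsg.Agent.Lib.H6.SympPerfect

/-!
Squares of a semisimple class in the projective symplectic group of degree four: Lagrangian decompositions.
-/
set_option autoImplicit false
set_option linter.unusedSectionVars false
set_option linter.unusedVariables false
set_option maxHeartbeats 400000

namespace H50.PSpSq

open Matrix H6.Symp

universe u

variable {F : Type u} [Field F]

/-- products of two conjugates of the standard element -/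
def InSq {τ ν : F} (h : Par τ ν) (g : SG4 F) : Prop :=
  ∃ u v : SG4 F, g = (u * mm (AA h) * u⁻¹) * (v * mm (AA h) * v⁻¹)

theorem InSq.conj {τ ν : F} {h : Par τ ν} {g w : SG4 F} (H : InSq h (w⁻¹ * g * w)) : InSq h g := by
  obtain ⟨u, v, e⟩ := H
  refine ⟨w * u, w * v, ?_⟩
  have e1 : g = w * (w⁻¹ * g * w) * w⁻¹ := by group
  rw [e1, e]; group

lemma conj_mm {τ ν : F} (h : Par τ ν) {A : GL (Fin 2) F} (htr : (A : M2 F).trace = τ) (hdet : (A : M2 F).det = ν) :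
    ∃ u : SG4 F, mm A = u * mm (AA h) * u⁻¹ := by
  obtain ⟨G, hG⟩ := conj_AA h htr hdet
  refine ⟨mm G, ?_⟩
  rw [hG, mm_mul, mm_mul, mm_inv]

/-- elements with a good block -/
theorem insq_of_block [Fintype F] {τ ν : F} (h : Par τ ν) {g : SG4 F} {P Q R S : M2 F} (hg : g.1 = fromBlocks P Q R S)
    (hns : P 1 0 ≠ 0 ∨ P 0 1 ≠ 0) (hdet : P.det = ν ^ 2) (htr : P.trace ≠ 2 * ν) : InSq h g := by
  have hd0 : P.det ≠ 0 := by rw [hdet]; exact pow_ne_zero 2 h.n0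
  obtain ⟨P', hP'⟩ : ∃ P' : GL (Fin 2) F, (P' : M2 F) = P := ⟨Matrix.GeneralLinearGroup.mkOfDetNeZero P hd0, rfl⟩
  subst hP'
  obtain ⟨A₁, A₂, h1, h2, h3, h4, h5⟩ := two_prod h hns hdet htr
  obtain ⟨C, B, hC, hB, e⟩ := gauss hg
  obtain ⟨w₁, hw₁⟩ := low_conj h h1 h2 C hC
  obtain ⟨w₂, hw₂⟩ := upp_conj h h3 h4 B hB
  obtain ⟨u₁, hu₁⟩ := conj_mm h h1 h2
  obtain ⟨u₂, hu₂⟩ := conj_mm h h3 h4
  refine ⟨w₁ * u₁, w₂ * u₂, ?_⟩
  have e2 : g = (low C hC * mm A₁) * (mm A₂ * upp B hB) := by rw [e, h5, mm_mul]; group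
  rw [e2, hw₁, hw₂, hu₁, hu₂]
  group

/-- the inverse of the standard element is a conjugate -/
theorem inv_conj {τ ν : F} (h : Par τ ν) : ∃ u : SG4 F, (mm (AA h))⁻¹ = u * mm (AA h) * u⁻¹ := by
  let At : GL (Fin 2) F := Matrix.GeneralLinearGroup.mkOfDetNeZero (AA h : M2 F)ᵀ (by
    rw [det_transpose, AA_val, comp_det]; exact h.n0)
  have hAt : (At : M2 F) = (AA h : M2 F)ᵀ := rfl
  obtain ⟨u, hu⟩ := conj_mm h (A := At) (by rw [hAt, trace_transpose', AA_val, comp_trace])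
    (by rw [hAt, det_transpose, AA_val, comp_det])
  have hAti : ((At⁻¹ : GL (Fin 2) F) : M2 F)ᵀ = (((AA h)⁻¹ : GL (Fin 2) F) : M2 F) := by
    have e1 : ((At⁻¹ : GL (Fin 2) F) : M2 F) = (((AA h)⁻¹ : GL (Fin 2) F) : M2 F)ᵀ := by
      have e2 : (At : M2 F) * (((AA h)⁻¹ : GL (Fin 2) F) : M2 F)ᵀ = 1 := by
        rw [hAt, ← transpose_mul, inv_mul_coe, transpose_one]
      calc ((At⁻¹ : GL (Fin 2) F) : M2 F) = ((At⁻¹ : GL (Fin 2) F) : M2 F) * ((At : M2 F) * (((AA h)⁻¹ : GL (Fin 2) F) : M2 F)ᵀ) := by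
              rw [e2, mul_one]
        _ = _ := by rw [← mul_assoc, inv_mul_coe, one_mul]
    rw [e1, transpose_transpose]
  let w₀ : SG4 F := SymplecticGroup.symJ (Fin 2) F
  have hw₀ : w₀.1 = fromBlocks 0 (-1) 1 0 := rfl
  have e1 : w₀ * mm At = mm (AA h)⁻¹ * w₀ := by
    apply Subtype.ext
    show w₀.1 * (mm At).1 = (mm (AA h)⁻¹).1 * w₀.1
    rw [hw₀, mm_val, mm_val, fromBlocks_multiply, fromBlocks_multiply, hAti, hAt, inv_inv]
    simp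
  refine ⟨w₀ * u, ?_⟩
  rw [← mm_inv, ← mul_inv_eq_iff_eq_mul.2 e1, hu]
  group

/-- lower unipotent elements -/
theorem insq_low [Finite F] {τ ν : F} (h : Par τ ν) (C : M2 F) (hC : Cᵀ = C) : InSq h (low C hC) := by
  obtain ⟨w, hw⟩ := low_conj h (A := AA h) (by rw [AA_val, comp_trace]) (by rw [AA_val, comp_det]) C hC
  obtain ⟨u, hu⟩ := inv_conj h
  refine ⟨w, u, ?_⟩
  rw [← hw, ← hu]; group

/-! ### Lagrangian pairs -/

abbrev V4 (F : Type u) : Type u := Fin 2 ⊕ Fin 2 → F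

/-- the matrix with columns x and y -/
def EE (x y : V4 F) : Matrix (Fin 2 ⊕ Fin 2) (Fin 2) F := (Matrix.of ![x, y])ᵀ

lemma EE_form (x y x' y' : V4 F) : (EE x y)ᵀ * J (Fin 2) F * EE x' y' = !![bf x x', bf x y'; bf y x', bf y y'] := by
  ext i j
  have h1 : ∀ (u v : V4 F), bf u v = u ⬝ᵥ (J (Fin 2) F *ᵥ v) := fun _ _ => rfl
  have h2 : ((EE x y)ᵀ * J (Fin 2) F * EE x' y') i j = (![x, y] i) ⬝ᵥ (J (Fin 2) F *ᵥ (![x', y'] j)) := by
    rw [Matrix.mul_assoc]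
    rfl
  rw [h2, ← h1]
  fin_cases i <;> fin_cases j <;> rfl

lemma mul_EE (g : Matrix (Fin 2 ⊕ Fin 2) (Fin 2 ⊕ Fin 2) F) (x y : V4 F) : g * EE x y = EE (g *ᵥ x) (g *ᵥ y) := by
  ext i j
  fin_cases j <;> rfl

/-- the decomposition lemma -/
theorem block_of_lagrangian (g : SG4 F) (E : Matrix (Fin 2 ⊕ Fin 2) (Fin 2) F) (hE : Eᵀ * J (Fin 2) F * E = 0)
    (R : GL (Fin 2) F) (hR : Eᵀ * J (Fin 2) F * (g.1 * E) = -(R : M2 F)) (Sg : M2 F) (hS : Sgᵀ = Sg) :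
    ∃ (h : SG4 F) (Q S : M2 F), (h⁻¹ * g * h).1 = fromBlocks (Sg * (R : M2 F)) Q (R : M2 F) S := by
  obtain ⟨Ri, hRi⟩ : ∃ Ri : M2 F, Ri = ((R⁻¹ : GL (Fin 2) F) : M2 F) := ⟨_, rfl⟩
  have hRR : (R : M2 F) * Ri = 1 := by rw [hRi]; exact mul_inv_coe R
  have hRR' : Ri * (R : M2 F) = 1 := by rw [hRi]; exact inv_mul_coe R
  have hg : g.1ᵀ * J (Fin 2) F * g.1 = J (Fin 2) F := SymplecticGroup.mem_iff'.1 g.2
  -- transposed relations
  have hJt : (J (Fin 2) F)ᵀ = -J (Fin 2) F := J_transpose _ _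
  have hR2 : (g.1 * E)ᵀ * J (Fin 2) F * E = (R : M2 F)ᵀ := by
    have h1 := congrArg Matrix.transpose hR
    rw [transpose_mul, transpose_mul Eᵀ, hJt, transpose_transpose, transpose_neg] at h1
    rw [← neg_inj, ← h1]
    simp only [Matrix.mul_assoc, Matrix.mul_neg, Matrix.neg_mul]
  have hgg : (g.1 * E)ᵀ * J (Fin 2) F * (g.1 * E) = 0 := by
    rw [transpose_mul]
    calc Eᵀ * g.1ᵀ * J (Fin 2) F * (g.1 * E) = Eᵀ * (g.1ᵀ * J (Fin 2) F * g.1) * E := by simp only [Matrix.mul_assoc]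
      _ = 0 := by rw [hg, hE]
  obtain ⟨W, hW⟩ : ∃ W : Matrix (Fin 2 ⊕ Fin 2) (Fin 2) F, W = g.1 * E * Ri - E * Sg := ⟨_, rfl⟩
  have k1 : Eᵀ * J (Fin 2) F * W = -1 := by
    rw [hW, Matrix.mul_sub, ← Matrix.mul_assoc, hR, ← Matrix.mul_assoc, hE, Matrix.zero_mul, sub_zero, Matrix.neg_mul, hRR]
  have hWt : Wᵀ = Riᵀ * (g.1 * E)ᵀ - Sg * Eᵀ := by
    rw [hW, transpose_sub, transpose_mul, transpose_mul E Sg, hS]
  have k2 : Wᵀ * J (Fin 2) F * E = 1 := by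
    rw [hWt, Matrix.sub_mul, Matrix.sub_mul, Matrix.mul_assoc Riᵀ, Matrix.mul_assoc Riᵀ, hR2, Matrix.mul_assoc Sg, Matrix.mul_assoc Sg, hE,
      Matrix.mul_zero, sub_zero, ← transpose_mul, hRR, transpose_one]
  have k4 : Wᵀ * J (Fin 2) F * (g.1 * E) = Sg * (R : M2 F) := by
    rw [hWt, Matrix.sub_mul, Matrix.sub_mul, Matrix.mul_assoc Riᵀ, Matrix.mul_assoc Riᵀ, hgg, Matrix.mul_zero, Matrix.mul_assoc Sg,
      Matrix.mul_assoc Sg, hR, zero_sub, Matrix.mul_neg, neg_neg]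
  have k3 : Wᵀ * J (Fin 2) F * W = 0 := by
    have e1 : Wᵀ * J (Fin 2) F * W = Wᵀ * J (Fin 2) F * (g.1 * E) * Ri - Wᵀ * J (Fin 2) F * E * Sg := by
      rw [Matrix.mul_assoc (Wᵀ * J (Fin 2) F) (g.1 * E) Ri, Matrix.mul_assoc (Wᵀ * J (Fin 2) F) E Sg, ← Matrix.mul_sub, ← hW]
    rw [e1, k4, k2, Matrix.mul_assoc, hRR, Matrix.mul_one, Matrix.one_mul, sub_self]
  have hmem : fromCols E W ∈ symplecticGroup (Fin 2) F := by
    rw [SymplecticGroup.mem_iff', transpose_fromCols, fromRows_mul, fromRows_mul_fromCols, hE, k1, k2, k3, Matrix.J]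
  refine ⟨⟨fromCols E W, hmem⟩, ?_⟩
  have e3 : ((⟨fromCols E W, hmem⟩ : SG4 F)⁻¹ * g * ⟨fromCols E W, hmem⟩).1 =
      -J (Fin 2) F * (fromRows Eᵀ Wᵀ * J (Fin 2) F * fromCols (g.1 * E) (g.1 * W)) := by
    show (-J (Fin 2) F) * (fromCols E W)ᵀ * J (Fin 2) F * g.1 * fromCols E W = _
    rw [transpose_fromCols, ← mul_fromCols]
    simp only [Matrix.mul_assoc]
  refine ⟨Wᵀ * J (Fin 2) F * (g.1 * W), -(Eᵀ * J (Fin 2) F * (g.1 * W)), ?_⟩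
  rw [e3, fromRows_mul, fromRows_mul_fromCols, hR, k4, Matrix.J, fromBlocks_neg, fromBlocks_multiply]
  simp

end H50.PSpSq
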