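import Cfsg.Agent.Lib.H50.PSpSq3

/-!
Squares of a semisimple class in the projective symplectic group of degree four: good pairs.
-/
set_option autoImplicit false
set_option linter.unusedSectionVars false
set_option linter.unusedVariables false
set_option maxHeartbeats 400000

namespace H50.PSpSq

open Matrix H6.Symp

universe u

variable {F : Type u} [Field F]

lemma prod_entries (x y z a b c d : F) :
    (!![x, y; y, z] : M2 F) * !![a, b; c, d] = !![x * a + y * c, x * b + y * d; y * a + z * c, y * b + z * d] := by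
  ext i j
  fin_cases i <;> fin_cases j <;> simp [Matrix.mul_apply, Fin.sum_univ_two]

lemma sym_entries (x y z : F) : (!![x, y; y, z] : M2 F)ᵀ = !![x, y; y, z] := by
  ext i j
  fin_cases i <;> fin_cases j <;> rfl

/-- a good symmetric matrix -/
theorem exists_sigma [Finite F] {τ ν : F} (h : Par τ ν) {a b d : F} (ha : a ≠ 0) (hd : d ≠ 0) :
    ∃ Sg : M2 F, Sgᵀ = Sg ∧ ((Sg * !![a, b; 0, d]) 1 0 ≠ 0 ∨ (Sg * !![a, b; 0, d]) 0 1 ≠ 0) ∧
      (Sg * !![a, b; 0, d]).det = ν ^ 2 ∧ (Sg * !![a, b; 0, d]).trace ≠ 2 * ν := by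
  have hn0 := h.n0
  obtain ⟨κ, hκ⟩ : ∃ κ : F, κ = ν ^ 2 / (a * d) := ⟨_, rfl⟩
  have hκ1 : κ * (a * d) = ν ^ 2 := by rw [hκ]; field_simp
  have hκ0 : κ ≠ 0 := by
    intro h0
    rw [h0, zero_mul] at hκ1
    exact pow_ne_zero 2 hn0 hκ1.symm
  by_cases hsq : IsSquare (-κ)
  · obtain ⟨y₀, hy₀⟩ := hsq
    have hy0 : y₀ ≠ 0 := by
      rintro rfl
      rw [mul_zero, neg_eq_zero] at hy₀
      exact hκ0 hy₀
    refine ⟨!![(2 * ν - b * y₀ + 1) / a, y₀; y₀, 0], sym_entries _ _ _, Or.inl ?_, ?_, ?_⟩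
    · rw [prod_entries]
      simp [hy0, ha]
    · rw [prod_entries, det_fin_two_of]
      field_simp
      linear_combination a * ((a * d) * hy₀ + hκ1)
    · rw [prod_entries, trace_fin_two_of]
      intro h1
      field_simp at h1
      apply one_ne_zero (α := F)
      linear_combination h1
  · -- odd characteristic
    have h2 : (2 : F) ≠ 0 := by
      intro h2
      apply hsq
      haveI := Fintype.ofFinite F
      have hch : ringChar F = 2 := by
        have h3 : ringChar F ∣ 2 := (ringChar.spec F 2).1 (by exact_mod_cast h2)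
        rcases (Nat.dvd_prime Nat.prime_two).1 h3 with h4 | h4
        · exact absurd h4 (CharP.char_ne_one F (ringChar F))
        · exact h4
      exact FiniteField.isSquare_of_char_two hch _
    by_cases hb : b = 0
    · refine ⟨!![1, 1; 1, κ + 1], sym_entries _ _ _, Or.inl ?_, ?_, ?_⟩
      · rw [prod_entries]
        simp [ha]
      · rw [prod_entries, det_fin_two_of]
        linear_combination hκ1
      · rw [prod_entries, trace_fin_two_of]
        intro h1
        apply hsq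
        -- (a - ν)^2 = - a d
        refine ⟨(a - ν) * κ / ν, ?_⟩
        rw [hb] at h1
        field_simp
        have h3 : (a - ν) ^ 2 = -(a * d) := by linear_combination a * h1 - hκ1
        have h4 : (a - ν) ^ 2 * κ = -ν ^ 2 := by rw [h3]; linear_combination -hκ1
        linear_combination -h4
    · refine ⟨!![-ν / a, 0; 0, -ν / d], sym_entries _ _ _, Or.inr ?_, ?_, ?_⟩
      · rw [prod_entries]
        simp [ha, hb, hn0]
      · rw [prod_entries, det_fin_two_of]
        field_simp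
        ring
      · rw [prod_entries, trace_fin_two_of]
        intro h1
        field_simp at h1
        have h3 : 2 * 2 * ν = 0 := by linear_combination -h1
        exact mul_ne_zero (mul_ne_zero h2 h2) hn0 h3

/-- a good pair of vectors -/
theorem insq_of_pair [Fintype F] {τ ν : F} (h : Par τ ν) {g : SG4 F} {x y : V4 F} (hxy : bf x y = 0)
    (ha : bf x (g.1 *ᵥ x) ≠ 0) (hc : bf y (g.1 *ᵥ x) = 0) (hd : bf y (g.1 *ᵥ y) ≠ 0) : InSq h g := by
  obtain ⟨R, hR⟩ : ∃ R : GL (Fin 2) F, (R : M2 F) = !![-bf x (g.1 *ᵥ x), -bf x (g.1 *ᵥ y); 0, -bf y (g.1 *ᵥ y)] :=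
    ⟨Matrix.GeneralLinearGroup.mkOfDetNeZero !![-bf x (g.1 *ᵥ x), -bf x (g.1 *ᵥ y); 0, -bf y (g.1 *ᵥ y)] (by
      rw [det_fin_two_of]; simp [ha, hd]), rfl⟩
  obtain ⟨Sg, h1, h2, h3, h4⟩ := exists_sigma h (b := -bf x (g.1 *ᵥ y)) (neg_ne_zero.2 ha) (neg_ne_zero.2 hd)
  rw [← hR] at h2 h3 h4
  obtain ⟨w, Q, S, hw⟩ := block_of_lagrangian g (EE x y) (by
    rw [EE_form, bf_self, bf_self, hxy, bf_swap y x, hxy, neg_zero]
    ext i j; fin_cases i <;> fin_cases j <;> rfl) R (by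
    rw [mul_EE, EE_form, hc, hR]
    ext i j; fin_cases i <;> fin_cases j <;> simp) Sg h1
  exact InSq.conj (insq_of_block h hw h2 h3 h4)

/-- a pair with non-vanishing determinant -/
theorem insq_of_pair' [Fintype F] {τ ν : F} (h : Par τ ν) {g : SG4 F} {x y : V4 F} (hxy : bf x y = 0)
    (ha : bf x (g.1 *ᵥ x) ≠ 0)
    (hD : bf x (g.1 *ᵥ x) * bf y (g.1 *ᵥ y) ≠ bf x (g.1 *ᵥ y) * bf y (g.1 *ᵥ x)) : InSq h g := by
  obtain ⟨t, ht⟩ : ∃ t : F, t = bf y (g.1 *ᵥ x) / bf x (g.1 *ᵥ x) := ⟨_, rfl⟩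
  have ht1 : t * bf x (g.1 *ᵥ x) = bf y (g.1 *ᵥ x) := by rw [ht]; field_simp
  apply insq_of_pair h (x := x) (y := y - t • x) _ ha
  · rw [bf_sub_left, bf_smul_left, ht1, sub_self]
  · rw [Matrix.mulVec_sub, Matrix.mulVec_smul, bf_sub_left, bf_sub_right, bf_smul_left, bf_sub_right, bf_smul_right,
      bf_smul_right]
    intro h0
    apply hD
    have h1 : bf x (g.1 *ᵥ x) * (bf y (g.1 *ᵥ y) - t * bf y (g.1 *ᵥ x) - t * (bf x (g.1 *ᵥ y) - t * bf x (g.1 *ᵥ x))) = 0 := by
      rw [h0, mul_zero]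
    linear_combination h1 + (bf x (g.1 *ᵥ y) - t * bf x (g.1 *ᵥ x)) * ht1
  · rw [bf_sub_right, bf_smul_right, bf_self, hxy, mul_zero, sub_zero]

/-- functionals vanishing on a hyperplane -/
theorem eq_smul_of_perp {y u : V4 F} (hy : y ≠ 0) (h : ∀ z, bf y z = 0 → bf u z = 0) : ∃ c : F, u = c • y := by
  obtain ⟨w, hw⟩ := exists_bf_ne_zero hy
  refine ⟨bf u w / bf y w, ?_⟩
  rw [← sub_eq_zero]
  apply eq_zero_of_forall_bf
  intro v
  have h1 := h (v - (bf y v / bf y w) • w) (by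
    rw [bf_sub_right, bf_smul_right]; field_simp; ring)
  rw [bf_sub_right, bf_smul_right] at h1
  rw [bf_sub_left, bf_smul_left]
  field_simp at h1 ⊢
  linear_combination h1

lemma bf_mulVec_right (g : SG4 F) (u v : V4 F) : bf u (g.1 *ᵥ v) = bf ((g⁻¹).1 *ᵥ u) v := by
  rw [← bf_smul g ((g⁻¹).1 *ᵥ u) v, mulVec_inv_self]

theorem exists_left {g : SG4 F} {y : V4 F} (hy : ∀ c : F, g.1 *ᵥ y ≠ c • y) : ∃ z, bf y z = 0 ∧ bf y (g.1 *ᵥ z) ≠ 0 := by
  by_contra hcon
  push Not at hcon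
  have hy0 : y ≠ 0 := by
    rintro rfl
    exact hy 0 (by rw [Matrix.mulVec_zero, smul_zero])
  obtain ⟨c, hc⟩ := eq_smul_of_perp (u := (g⁻¹).1 *ᵥ y) hy0 (by
    intro z hz
    rw [← bf_mulVec_right]; exact hcon z hz)
  have h1 : y = c • (g.1 *ᵥ y) := by
    have h2 := congrArg (fun w => g.1 *ᵥ w) hc
    simp only [mulVec_inv_self, Matrix.mulVec_smul] at h2
    exact h2
  have hc0 : c ≠ 0 := by
    rintro rfl
    rw [zero_smul] at h1
    exact hy0 h1
  apply hy c⁻¹
  nth_rw 2 [h1]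
  rw [smul_smul, inv_mul_cancel₀ hc0, one_smul]

theorem exists_right {g : SG4 F} {y : V4 F} (hy : ∀ c : F, g.1 *ᵥ y ≠ c • y) : ∃ z, bf y z = 0 ∧ bf z (g.1 *ᵥ y) ≠ 0 := by
  by_contra hcon
  push Not at hcon
  have hy0 : y ≠ 0 := by
    rintro rfl
    exact hy 0 (by rw [Matrix.mulVec_zero, smul_zero])
  obtain ⟨c, hc⟩ := eq_smul_of_perp (u := g.1 *ᵥ y) hy0 (by
    intro z hz
    rw [bf_swap, hcon z hz, neg_zero])
  exact hy c hc

/-- an element with blocks `1, 0` in the first row is a lower unipotent element -/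
theorem eq_low {g : SG4 F} {R S : M2 F} (hg : g.1 = fromBlocks 1 0 R S) : ∃ hR : Rᵀ = R, g = low R hR := by
  have h1 := g.2
  rw [SymplecticGroup.mem_iff', hg, Matrix.J, fromBlocks_transpose, fromBlocks_multiply, fromBlocks_multiply] at h1
  simp only [mul_zero, zero_add, add_zero, mul_one, one_mul, mul_neg, transpose_one, transpose_zero, zero_mul, neg_zero] at h1
  rw [fromBlocks_inj] at h1
  obtain ⟨h2, h3, h4, -⟩ := h1
  have hS : S = 1 := by
    have : -(1 : M2 F) * S = -1 := h3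
    rw [neg_mul, one_mul, neg_inj] at this
    exact this
  have hR : Rᵀ = R := by
    have l5 : Rᵀ + -(1 : M2 F) * R = 0 := h2
    rw [neg_mul, one_mul, ← sub_eq_add_neg, sub_eq_zero] at l5
    exact l5
  refine ⟨hR, ?_⟩
  apply Subtype.ext
  rw [hg, hS]; rfl

/-- the alternating case -/
theorem insq_of_alt [Fintype F] {τ ν : F} (h : Par τ ν) {g : SG4 F} (hq : ∀ v, bf v (g.1 *ᵥ v) = 0)
    {y : V4 F} (hy : ∀ c : F, g.1 *ᵥ y ≠ c • y) : InSq h g := by
  obtain ⟨z, hyz, hz⟩ := exists_left hy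
  obtain ⟨r, hr⟩ : ∃ r, r = bf y (g.1 *ᵥ z) := ⟨_, rfl⟩
  rw [← hr] at hz
  have hpol : ∀ u v, bf u (g.1 *ᵥ v) + bf v (g.1 *ᵥ u) = 0 := by
    intro u v
    have h1 := hq (u + v)
    rw [Matrix.mulVec_add, bf_add_left, bf_add_right, bf_add_right, hq, hq] at h1
    linear_combination h1
  have hzy : bf z (g.1 *ᵥ y) = -r := by
    have h1 := hpol y z
    rw [hr]; linear_combination h1
  obtain ⟨R, hR⟩ : ∃ R : GL (Fin 2) F, (R : M2 F) = !![0, -r; r, 0] :=
    ⟨Matrix.GeneralLinearGroup.mkOfDetNeZero !![0, -r; r, 0] (by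
      rw [det_fin_two_of]; simp [hz]), rfl⟩
  have hE : (EE y z)ᵀ * J (Fin 2) F * EE y z = 0 := by
    rw [EE_form, bf_self, bf_self, hyz, bf_swap z y, hyz, neg_zero]
    ext i j; fin_cases i <;> fin_cases j <;> rfl
  have hRR : (EE y z)ᵀ * J (Fin 2) F * (g.1 * EE y z) = -(R : M2 F) := by
    rw [mul_EE, EE_form, hq, hq, ← hr, hzy, hR]
    ext i j; fin_cases i <;> fin_cases j <;> simp
  by_cases h2 : (2 : F) = 0
  · have hneg : ∀ a : F, -a = a := by
      intro a
      have : a + a = 0 := by rw [← two_mul, h2, zero_mul]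
      exact neg_eq_of_add_eq_zero_left this
    obtain ⟨w, Q, S, hw⟩ := block_of_lagrangian g (EE y z) hE R hRR !![0, r⁻¹; r⁻¹, 0] (sym_entries _ _ _)
    have e1 : (!![0, r⁻¹; r⁻¹, 0] : M2 F) * (R : M2 F) = 1 := by
      rw [hR, prod_entries]
      ext i j; fin_cases i <;> fin_cases j <;> simp [hz, hneg]
    rw [e1] at hw
    -- g is an involution
    have hgg : g * g = 1 := by
      apply ext_mulVec
      intro x
      rw [coe_one_mulVec, coe_mul_mulVec, ← sub_eq_zero]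
      apply eq_zero_of_forall_bf
      intro v
      obtain ⟨v', rfl⟩ : ∃ v', v = g.1 *ᵥ v' := ⟨(g⁻¹).1 *ᵥ v, (mulVec_inv_self g v).symm⟩
      rw [bf_sub_left, bf_smul, bf_swap (g.1 *ᵥ x) v', ← neg_eq_zero]
      have h3 := hpol x v'
      linear_combination h3
    have hgw : (w⁻¹ * g * w) * (w⁻¹ * g * w) = 1 := by
      have : (w⁻¹ * g * w) * (w⁻¹ * g * w) = w⁻¹ * (g * g) * w := by group
      rw [this, hgg]; group
    have h3 := congrArg Subtype.val hgw
    have h4 : (w⁻¹ * g * w).1 * (w⁻¹ * g * w).1 = (1 : Matrix (Fin 2 ⊕ Fin 2) (Fin 2 ⊕ Fin 2) F) := h3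
    rw [hw, fromBlocks_multiply, ← fromBlocks_one, fromBlocks_inj] at h4
    have h5 : Q * (R : M2 F) = 0 := by
      have h6 := h4.1
      rw [one_mul] at h6
      have : (1 : M2 F) + Q * (R : M2 F) = 1 + 0 := by rw [add_zero]; exact h6
      exact add_left_cancel this
    have hQ : Q = 0 := by
      calc Q = Q * (R : M2 F) * ((R⁻¹ : GL (Fin 2) F) : M2 F) := by rw [mul_assoc, mul_inv_coe, mul_one]
        _ = 0 := by rw [h5, zero_mul]
    rw [hQ] at hw
    obtain ⟨hRs, hlow⟩ := eq_low hw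
    apply InSq.conj (w := w)
    rw [hlow]
    exact insq_low h _ _
  · obtain ⟨w, Q, S, hw⟩ := block_of_lagrangian g (EE y z) hE R hRR !![ν / r, 0; 0, ν / r] (sym_entries _ _ _)
    apply InSq.conj (w := w)
    apply insq_of_block h hw
    · left
      rw [hR, prod_entries]
      simp [hz, h.n0]
    · rw [hR, prod_entries, det_fin_two_of]
      field_simp
      ring
    · rw [hR, prod_entries, trace_fin_two_of]
      intro h1
      simp at h1
      rcases h1 with h1 | h1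
      · exact h2 h1
      · exact h.n0 h1

end H50.PSpSq
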