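import Cfsg.Agent.Lib.H50.PSpSq4

/-!
Squares of a semisimple class in the projective symplectic group of degree four: elements without good pairs.
-/
set_option autoImplicit false
set_option linter.unusedSectionVars false
set_option linter.unusedVariables false
set_option maxHeartbeats 400000

namespace H50.PSpSq

open Matrix H6.Symp

universe u

variable {F : Type u} [Field F]

/-- no good pairs -/
def NoPair (g : SG4 F) : Prop := ∀ x y : V4 F, bf x (g.1 *ᵥ x) ≠ 0 → bf x y = 0 →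
  bf x (g.1 *ᵥ x) * bf y (g.1 *ᵥ y) = bf x (g.1 *ᵥ y) * bf y (g.1 *ᵥ x)

theorem eig {g : SG4 F} (H : NoPair g) {c₀ : F} (hc0 : c₀ ≠ 0) (hc1 : c₀ ≠ 1) {x y : V4 F} (hx : bf x (g.1 *ᵥ x) ≠ 0)
    (hxy : bf x y = 0) (hyx : bf y (g.1 *ᵥ x) = 0) : ∃ c : F, g.1 *ᵥ y = c • y := by
  by_contra hcon
  push Not at hcon
  obtain ⟨z₁, h1, h2⟩ := exists_left hcon
  obtain ⟨z₂, h3, h4⟩ := exists_right hcon
  obtain ⟨z, hz, hz1, hz2⟩ : ∃ z, bf y z = 0 ∧ bf y (g.1 *ᵥ z) ≠ 0 ∧ bf z (g.1 *ᵥ y) ≠ 0 := by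
    by_cases h5 : bf z₁ (g.1 *ᵥ y) = 0
    · by_cases h6 : bf y (g.1 *ᵥ z₂) = 0
      · refine ⟨z₁ + z₂, ?_, ?_, ?_⟩
        · rw [bf_add_right, h1, h3, add_zero]
        · rw [Matrix.mulVec_add, bf_add_right, h6, add_zero]; exact h2
        · rw [bf_add_left, h5, zero_add]; exact h4
      · exact ⟨z₂, h3, h6, h4⟩
    · exact ⟨z₁, h1, h2, h5⟩
  have hqy : bf y (g.1 *ᵥ y) = 0 := by
    have h5 := H x y hx hxy
    rw [hyx, mul_zero] at h5
    exact (mul_eq_zero.1 h5).resolve_left hx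
  have hyx' : bf y x = 0 := by rw [bf_swap, hxy, neg_zero]
  have key : ∀ v, bf y v = 0 → bf y (g.1 *ᵥ v) ≠ 0 → bf v (g.1 *ᵥ y) ≠ 0 → bf v (g.1 *ᵥ v) = 0 := by
    intro v hv h5 h6
    by_contra hne
    have h7 := H v y hne (by rw [bf_swap, hv, neg_zero])
    rw [hqy, mul_zero] at h7
    exact mul_ne_zero h6 h5 h7.symm
  -- the line through z
  have hw : ∀ t : F, bf (z + t • y) (g.1 *ᵥ (z + t • y)) = 0 := by
    intro t
    apply key
    · rw [bf_add_right, bf_smul_right, bf_self, hz]; ring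
    · rw [Matrix.mulVec_add, Matrix.mulVec_smul, bf_add_right, bf_smul_right, hqy, mul_zero, add_zero]; exact hz1
    · rw [bf_add_left, bf_smul_left, hqy, mul_zero, add_zero]; exact hz2
  have main : ∀ s t : F, s ≠ 0 → bf x (g.1 *ᵥ y) + s * bf z (g.1 *ᵥ y) ≠ 0 →
      bf x (g.1 *ᵥ x) + s * (bf x (g.1 *ᵥ z) + bf z (g.1 *ᵥ x) + t * bf x (g.1 *ᵥ y)) = 0 := by
    intro s t hs hk
    have h5 := key (x + s • (z + t • y)) (by
      rw [bf_add_right, bf_smul_right, bf_add_right, bf_smul_right, bf_self, hz, hyx']; ring) (by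
      rw [Matrix.mulVec_add, Matrix.mulVec_smul, Matrix.mulVec_add, Matrix.mulVec_smul, bf_add_right, bf_smul_right,
        bf_add_right, bf_smul_right, hyx, hqy, mul_zero, add_zero, zero_add]
      exact mul_ne_zero hs hz1) (by
      rw [bf_add_left, bf_smul_left, bf_add_left, bf_smul_left, hqy, mul_zero, add_zero]
      exact hk)
    have h6 := hw t
    obtain ⟨w, hwdef⟩ : ∃ w, w = z + t • y := ⟨_, rfl⟩
    rw [← hwdef] at h5 h6
    rw [Matrix.mulVec_add, Matrix.mulVec_smul, bf_add_left, bf_add_right, bf_add_right, bf_smul_left, bf_smul_left,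
      bf_smul_right, bf_smul_right, h6] at h5
    have h7 : bf x (g.1 *ᵥ w) = bf x (g.1 *ᵥ z) + t * bf x (g.1 *ᵥ y) := by
      rw [hwdef, Matrix.mulVec_add, Matrix.mulVec_smul, bf_add_right, bf_smul_right]
    have h8 : bf w (g.1 *ᵥ x) = bf z (g.1 *ᵥ x) := by
      rw [hwdef, bf_add_left, bf_smul_left, hyx, mul_zero, add_zero]
    rw [h7, h8] at h5
    linear_combination h5
  -- first k = 0
  have hk : bf x (g.1 *ᵥ y) = 0 := by
    obtain ⟨s, hs, hsk⟩ : ∃ s : F, s ≠ 0 ∧ bf x (g.1 *ᵥ y) + s * bf z (g.1 *ᵥ y) ≠ 0 := by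
      by_cases h5 : bf x (g.1 *ᵥ y) + 1 * bf z (g.1 *ᵥ y) = 0
      · refine ⟨c₀, hc0, ?_⟩
        intro h6
        have h7 : (c₀ - 1) * bf z (g.1 *ᵥ y) = 0 := by linear_combination h6 - h5
        exact mul_ne_zero (sub_ne_zero.2 hc1) hz2 h7
      · exact ⟨1, one_ne_zero, h5⟩
    have h5 := main s 0 hs hsk
    have h6 := main s 1 hs hsk
    have h7 : s * bf x (g.1 *ᵥ y) = 0 := by linear_combination h6 - h5
    exact (mul_eq_zero.1 h7).resolve_left hs
  have h5 := main 1 0 one_ne_zero (by rw [hk, zero_add, one_mul]; exact hz2)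
  have h6 := main c₀ 0 hc0 (by rw [hk, zero_add]; exact mul_ne_zero hc0 hz2)
  apply hx
  have h7 : (c₀ - 1) * bf x (g.1 *ᵥ x) = 0 := by linear_combination c₀ * h5 - h6
  exact (mul_eq_zero.1 h7).resolve_left (sub_ne_zero.2 hc1)

/-- elements without good pairs act as a scalar on a hyperplane -/
theorem hyper {g : SG4 F} (H : NoPair g) {c₀ : F} (hc0 : c₀ ≠ 0) (hc1 : c₀ ≠ 1) {x : V4 F} (hx : bf x (g.1 *ᵥ x) ≠ 0) :
    ∃ (c : F) (z₀ : V4 F), c ^ 2 = 1 ∧ z₀ ≠ 0 ∧ ∀ v, bf z₀ v = 0 → g.1 *ᵥ v = c • v := by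
  obtain ⟨a, ha⟩ : ∃ a, a = bf x (g.1 *ᵥ x) := ⟨_, rfl⟩
  have ha0 : a ≠ 0 := by rw [ha]; exact hx
  -- decomposition
  have dec : ∀ v : V4 F, ∃ (α β : F) (n : V4 F), v = α • x + β • (g.1 *ᵥ x) + n ∧ bf x n = 0 ∧ bf n (g.1 *ᵥ x) = 0 := by
    intro v
    refine ⟨bf v (g.1 *ᵥ x) / a, bf x v / a, v - (bf v (g.1 *ᵥ x) / a) • x - (bf x v / a) • (g.1 *ᵥ x), by abel, ?_, ?_⟩
    · rw [bf_sub_right, bf_sub_right, bf_smul_right, bf_smul_right, bf_self, ← ha]
      field_simp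
      ring
    · rw [bf_sub_left, bf_sub_left, bf_smul_left, bf_smul_left, bf_self, ← ha]
      field_simp
      ring
  -- a vector of N
  obtain ⟨y₁, hy0, hy1, hy2⟩ : ∃ y : V4 F, y ≠ 0 ∧ bf x y = 0 ∧ bf y (g.1 *ᵥ x) = 0 := by
    let f : V4 F →ₗ[F] (Fin 2 → F) :=
      { toFun := fun v => ![bf x v, bf v (g.1 *ᵥ x)]
        map_add' := fun u v => by
          ext i; fin_cases i
          · exact bf_add_right x u v
          · exact bf_add_left u v _
        map_smul' := fun c v => by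
          ext i; fin_cases i
          · exact bf_smul_right c x v
          · exact bf_smul_left c v _ }
    have hker : LinearMap.ker f ≠ ⊥ := by
      apply LinearMap.ker_ne_bot_of_finrank_lt
      rw [Module.finrank_fintype_fun_eq_card, Module.finrank_fintype_fun_eq_card]
      simp
    obtain ⟨y, hy, hy0⟩ := Submodule.exists_mem_ne_zero_of_ne_bot hker
    have h1 : f y = 0 := hy
    exact ⟨y, hy0, congrFun h1 0, congrFun h1 1⟩
  obtain ⟨y₂, hz1, hz2, hyy⟩ : ∃ y : V4 F, bf x y = 0 ∧ bf y (g.1 *ᵥ x) = 0 ∧ bf y₁ y = 1 := by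
    obtain ⟨v, hv⟩ := exists_bf_ne_zero hy0
    obtain ⟨α, β, n, e, h1, h2⟩ := dec v
    have h3 : bf y₁ v = bf y₁ n := by
      rw [e, bf_add_right, bf_add_right, bf_smul_right, bf_smul_right, hy2, bf_swap y₁ x, hy1]; ring
    refine ⟨(bf y₁ v)⁻¹ • n, ?_, ?_, ?_⟩
    · rw [bf_smul_right, h1, mul_zero]
    · rw [bf_smul_left, h2, mul_zero]
    · rw [bf_smul_right, ← h3, inv_mul_cancel₀ hv]
  obtain ⟨c, hc⟩ := eig H hc0 hc1 hx hy1 hy2
  obtain ⟨c₂, hc₂⟩ := eig H hc0 hc1 hx hz1 hz2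
  obtain ⟨c₃, hc₃⟩ := eig H hc0 hc1 hx (y := y₁ + y₂) (by rw [bf_add_right, hy1, hz1, add_zero])
    (by rw [bf_add_left, hy2, hz2, add_zero])
  have hyy' : bf y₂ y₁ = -1 := by rw [bf_swap, hyy]
  have hcc : c₂ = c := by
    rw [Matrix.mulVec_add, hc, hc₂] at hc₃
    have h1 := congrArg (fun w => bf w y₂) hc₃
    have h2 := congrArg (fun w => bf w y₁) hc₃
    simp only [bf_add_left, bf_smul_left, bf_self, hyy, hyy'] at h1 h2
    linear_combination -h1 - h2
  rw [hcc] at hc₂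
  have hc2 : c ^ 2 = 1 := by
    have h1 := bf_smul g y₁ y₂
    rw [hc, hc₂, bf_smul_left, bf_smul_right, hyy] at h1
    linear_combination h1
  -- all vectors of N
  have hN : ∀ n, bf x n = 0 → bf n (g.1 *ᵥ x) = 0 → g.1 *ᵥ n = c • n := by
    have h0 : ∀ n, bf x n = 0 → bf n (g.1 *ᵥ x) = 0 → bf n y₁ ≠ 0 → g.1 *ᵥ n = c • n := by
      intro n h1 h2 h3
      obtain ⟨d, hd⟩ := eig H hc0 hc1 hx h1 h2
      have h4 := bf_smul g n y₁
      rw [hd, hc, bf_smul_left, bf_smul_right] at h4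
      have h5 : (d * c - 1) * bf n y₁ = 0 := by linear_combination h4
      have h6 : d * c - 1 = 0 := (mul_eq_zero.1 h5).resolve_right h3
      have h7 : d = c := by linear_combination c * h6 - d * hc2
      rw [hd, h7]
    intro n h1 h2
    by_cases h3 : bf n y₁ = 0
    · have h4 := h0 (n + y₂) (by rw [bf_add_right, h1, hz1, add_zero]) (by rw [bf_add_left, h2, hz2, add_zero])
        (by rw [bf_add_left, h3, hyy', zero_add]; exact neg_ne_zero.2 one_ne_zero)
      rw [Matrix.mulVec_add, hc₂, smul_add] at h4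
      exact add_right_cancel h4
    · exact h0 n h1 h2 h3
  -- the centre
  obtain ⟨z₀, hz₀⟩ : ∃ z₀, z₀ = g.1 *ᵥ x - c • x := ⟨_, rfl⟩
  have hxz : bf x z₀ = a := by rw [hz₀, bf_sub_right, bf_smul_right, bf_self, ← ha]; ring
  have hz0' : z₀ ≠ 0 := by
    rintro h0
    rw [h0, bf_zero_right] at hxz
    exact ha0 hxz.symm
  have hyz : bf y₁ z₀ = 0 := by
    rw [hz₀, bf_sub_right, bf_smul_right, hy2, bf_swap y₁ x, hy1]; ring
  have hxy1 : bf y₁ x = 0 := by rw [bf_swap, hy1, neg_zero]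
  have hgz : g.1 *ᵥ z₀ = c • z₀ := by
    obtain ⟨z, hz⟩ : ∃ z, z = (-a⁻¹) • z₀ + y₂ := ⟨_, rfl⟩
    have hx' : g.1 *ᵥ (x + y₁) = g.1 *ᵥ x + c • y₁ := by rw [Matrix.mulVec_add, hc]
    have hgxy : bf y₁ (g.1 *ᵥ x) = 0 := hy2
    obtain ⟨d, hd⟩ := eig H hc0 hc1 (x := x + y₁) (y := z) (by
        rw [hx', bf_add_left, bf_add_right, bf_add_right, bf_smul_right, bf_smul_right, hy1, hy2, bf_self]
        simpa using hx) (by
        rw [hz, bf_add_left, bf_add_right, bf_add_right, bf_smul_right, bf_smul_right, hxz, hyz, hz1, hyy]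
        field_simp
        ring) (by
        rw [hx', hz, bf_add_left, bf_add_right, bf_add_right, bf_smul_left, bf_smul_left, bf_smul_right, bf_smul_right, hz2,
          hyy', bf_swap z₀ y₁, hyz, hz₀, bf_sub_left, bf_smul_left, bf_self, ← ha]
        field_simp
        ring)
    have h1 : bf z y₁ = -1 := by
      rw [hz, bf_add_left, bf_smul_left, bf_swap z₀ y₁, hyz, hyy']; ring
    have h2 : d = c := by
      have h3 := bf_smul g z y₁
      rw [hd, hc, bf_smul_left, bf_smul_right, h1] at h3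
      linear_combination -c * h3 - d * hc2
    rw [h2, hz, Matrix.mulVec_add, Matrix.mulVec_smul, hc₂, smul_add] at hd
    have h4 := add_right_cancel hd
    have h5 := congrArg (fun w => (-a) • w) h4
    simp only [smul_smul] at h5
    have h6 : -a * -a⁻¹ = 1 := by field_simp
    rw [h6, one_smul] at h5
    rw [h5, show -a * (c * -a⁻¹) = c by field_simp]
  refine ⟨c, z₀, hc2, hz0', ?_⟩
  intro v hv
  obtain ⟨α, β, n, e, h1, h2⟩ := dec v
  have h3 : bf z₀ v = -(a * (α + c * β)) := by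
    have e1 : bf z₀ x = -a := by rw [bf_swap, hxz]
    have e2 : bf z₀ (g.1 *ᵥ x) = -(c * a) := by rw [hz₀, bf_sub_left, bf_smul_left, bf_self, ← ha]; ring
    have e3 : bf z₀ n = 0 := by
      rw [hz₀, bf_sub_left, bf_smul_left, h1, bf_swap, h2]; ring
    rw [e, bf_add_right, bf_add_right, bf_smul_right, bf_smul_right, e1, e2, e3]; ring
  rw [h3, neg_eq_zero] at hv
  have h4 : α = -(c * β) := by
    have h5 := (mul_eq_zero.1 hv).resolve_left ha0
    linear_combination h5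
  have h6 : v = β • z₀ + n := by
    rw [e, h4, hz₀, smul_sub, smul_smul, neg_smul, mul_comm c β]; abel
  rw [h6, Matrix.mulVec_add, Matrix.mulVec_smul, hgz, hN n h1 h2, smul_add, smul_comm]

end H50.PSpSq
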