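import Cfsg.Agent.Lib.H50.PSpSq5
import Cfsg.Prelude

/-!
Squares of a semisimple class in the projective symplectic group of degree four: conclusion.
-/
set_option autoImplicit false
set_option linter.unusedSectionVars false
set_option linter.unusedVariables false
set_option maxHeartbeats 400000

namespace H50.PSpSq

open Matrix H6.Symp H6.SympPerfect

universe u

variable {F : Type u} [Field F]

/-- elements fixing the second half of the basis are lower unipotent elements -/
theorem eq_low' {g : SG4 F} (hg : ∀ j : Fin 2, g.1 *ᵥ (f j : V4 F) = f j) : ∃ (R : M2 F) (hR : Rᵀ = R), g = low R hR := by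
  obtain ⟨P, Q, R, S, hb⟩ : ∃ P Q R S : M2 F, g.1 = fromBlocks P Q R S :=
    ⟨_, _, _, _, (fromBlocks_toBlocks g.1).symm⟩
  have h1 : ∀ (i : Fin 2 ⊕ Fin 2) (j : Fin 2), g.1 i (Sum.inr j) = (f j : V4 F) i := by
    intro i j
    have h2 := congrFun (hg j) i
    rw [← h2]
    show _ = (g.1 *ᵥ Pi.single (Sum.inr j) 1) i
    rw [Matrix.mulVec_single_one]; rfl
  have hQ : Q = 0 := by
    ext i j
    have h2 := h1 (Sum.inl i) j
    rw [hb, fromBlocks_apply₁₂] at h2
    rw [h2]
    simp [f]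
  have hS : S = 1 := by
    ext i j
    have h2 := h1 (Sum.inr i) j
    rw [hb, fromBlocks_apply₂₂] at h2
    rw [h2]
    simp [f, Pi.single_apply, Matrix.one_apply]
  rw [hQ, hS] at hb
  have h3 := g.2
  rw [SymplecticGroup.mem_iff', hb, Matrix.J, fromBlocks_transpose, fromBlocks_multiply, fromBlocks_multiply] at h3
  simp only [mul_zero, zero_add, add_zero, mul_one, one_mul, mul_neg, transpose_one, transpose_zero, zero_mul, neg_zero] at h3
  rw [fromBlocks_inj] at h3
  obtain ⟨-, h4, -, -⟩ := h3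
  have hP : P = 1 := by
    have h5 : -Pᵀ = -1 := h4
    rw [neg_inj] at h5
    rw [← transpose_transpose P, h5, transpose_one]
  rw [hP] at hb
  obtain ⟨hR, e⟩ := eq_low hb
  exact ⟨R, hR, e⟩

/-- the main theorem for the symplectic group -/
theorem main [Fintype F] {τ ν : F} (h : Par τ ν) (h3 : 3 ≤ Fintype.card F) {g : SG4 F} {y : V4 F}
    (hy : ∀ c : F, g.1 *ᵥ y ≠ c • y) : ∃ (c : F) (hc : c ^ 2 = 1), InSq h (scal c hc * g) := by
  classical
  have hone : (scal (1 : F) (one_pow 2) : SG4 F) = 1 := by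
    apply ext_mulVec
    intro u
    rw [scal_mulVec, one_smul, coe_one_mulVec]
  by_cases hq : ∀ v, bf v (g.1 *ᵥ v) = 0
  · exact ⟨1, one_pow 2, by rw [hone, one_mul]; exact insq_of_alt h hq hy⟩
  push Not at hq
  obtain ⟨x, hx⟩ := hq
  by_cases H : NoPair g
  · obtain ⟨c₀, hc0, hc1⟩ : ∃ c : F, c ≠ 0 ∧ c ≠ 1 := by
      by_contra hcon
      push Not at hcon
      have h1 : Fintype.card F ≤ ({0, 1} : Finset F).card := by
        rw [← Finset.card_univ]
        apply Finset.card_le_card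
        intro x _
        rw [Finset.mem_insert, Finset.mem_singleton]
        by_cases hx : x = 0
        · exact Or.inl hx
        · exact Or.inr (hcon x hx)
      have h4 : ({0, 1} : Finset F).card ≤ 2 := Finset.card_le_two
      omega
    obtain ⟨c, z₀, hc2, hz0, hz⟩ := hyper H hc0 hc1 hx
    refine ⟨c, hc2, ?_⟩
    have hf0 : (f (0 : Fin 2) : V4 F) ≠ 0 := by
      intro h0
      have := congrFun h0 (Sum.inr 0)
      simp [f] at this
    obtain ⟨w, hw⟩ := exists_mulVec_eq hf0 hz0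
    have hfix : ∀ v : V4 F, bf z₀ v = 0 → (scal c hc2 * g).1 *ᵥ v = v := by
      intro v hv
      rw [coe_mul_mulVec, hz v hv, scal_mulVec, smul_smul, ← sq, hc2, one_smul]
    have h5 : ∀ j : Fin 2, (w⁻¹ * (scal c hc2 * g) * w).1 *ᵥ (f j : V4 F) = f j := by
      intro j
      rw [coe_mul_mulVec, coe_mul_mulVec, hfix, inv_mulVec_self]
      rw [← hw, bf_smul, bf_f_left]
      simp [f]
    obtain ⟨R, hR, e⟩ := eq_low' h5
    apply InSq.conj (w := w)
    rw [e]
    exact insq_low h R hR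
  · unfold NoPair at H
    push Not at H
    obtain ⟨x, y, h1, h2, h3⟩ := H
    exact ⟨1, one_pow 2, by rw [hone, one_mul]; exact insq_of_pair' h h2 h1 h3⟩

lemma mm_pow (G : GL (Fin 2) F) (k : ℕ) : mm (G ^ k) = mm G ^ k := by
  induction k with
  | zero => rw [pow_zero, pow_zero, mm_one]
  | succ k ih => rw [pow_succ, pow_succ, mm_mul, ih]

lemma pow_span {τ ν : F} (h : Par τ ν) (k : ℕ) : ∃ α β : F, ((AA h ^ k : GL (Fin 2) F) : M2 F) = α • (1 : M2 F) + β • (AA h : M2 F) := by
  induction k with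
  | zero => exact ⟨1, 0, by rw [pow_zero, Units.val_one, one_smul, zero_smul, add_zero]⟩
  | succ k ih =>
    obtain ⟨α, β, e⟩ := ih
    refine ⟨-(β * ν), α + β * τ, ?_⟩
    have h1 := cayley (AA h : M2 F)
    rw [AA_val, comp_trace, comp_det, ← AA_val h] at h1
    rw [pow_succ, Units.val_mul, e, add_mul, smul_mul_assoc, smul_mul_assoc, one_mul, h1, smul_sub, smul_smul, smul_smul,
      neg_smul, add_smul]
    abel

/-- the order of the element is prime to the characteristic -/
theorem order_prime [Finite F] {p : ℕ} [hp : Fact p.Prime] [CharP F p] {τ ν : F} (h : Par τ ν) :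
    ¬ p ∣ orderOf (QuotientGroup.mk (mm (AA h)) : Cfsg.PSp 2 F) := by
  intro hdvd
  haveI : Finite (Cfsg.PSp 2 F) := inferInstance
  obtain ⟨k, hk⟩ := hdvd
  have hpos : 0 < orderOf (QuotientGroup.mk (mm (AA h)) : Cfsg.PSp 2 F) := orderOf_pos _
  have hk0 : k ≠ 0 := by
    rintro rfl
    rw [mul_zero] at hk
    omega
  have h1 : (QuotientGroup.mk (mm (AA h)) : Cfsg.PSp 2 F) ^ k ≠ 1 := by
    apply pow_ne_one_of_lt_orderOf hk0
    rw [hk]
    have := hp.out.one_lt
    nlinarith [Nat.pos_of_ne_zero hk0]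
  have h2 : (QuotientGroup.mk (mm (AA h)) : Cfsg.PSp 2 F) ^ (p * k) = 1 := by rw [← hk, pow_orderOf_eq_one]
  apply h1
  have h3 : (QuotientGroup.mk (mm (AA h ^ (p * k))) : Cfsg.PSp 2 F) = 1 := by
    rw [mm_pow]; exact h2
  rw [QuotientGroup.eq_one_iff, mem_center_iff] at h3
  obtain ⟨c, hc2, hc⟩ := h3
  -- the matrix is scalar
  have hmat : ∀ (M : GL (Fin 2) F), (∀ u : V4 F, (mm M).1 *ᵥ u = c • u) → (M : M2 F) = c • 1 := by
    intro M hM
    ext i j
    have h4 := congrFun (hM (Pi.single (Sum.inl j) 1)) (Sum.inl i)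
    rw [Matrix.mulVec_single_one] at h4
    have h5 : (mm M).1 (Sum.inl i) (Sum.inl j) = (M : M2 F) i j := rfl
    have h6 : (mm M).1 (Sum.inl i) (Sum.inl j) = (c • (Pi.single (Sum.inl j) 1 : V4 F)) (Sum.inl i) := h4
    rw [← h5, h6, Pi.smul_apply, Matrix.smul_apply, Matrix.one_apply, Pi.single_apply]
    simp
  have h4 := hmat _ hc
  obtain ⟨α, β, e⟩ := pow_span h k
  haveI : CharP (M2 F) p := Matrix.charP p
  have hcp : c ^ p = c := by
    rcases hp.out.eq_two_or_odd' with h5 | h5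
    · rw [h5, hc2]
      have h6 : (2 : F) = 0 := by
        have := CharP.cast_eq_zero F p
        rw [h5] at this
        exact_mod_cast this
      have h7 : (c - 1) ^ 2 = 0 := by linear_combination hc2 - (c - 1) * h6
      have h8 : c - 1 = 0 := by
        rw [sq] at h7
        exact mul_self_eq_zero.1 h7
      linear_combination -h8
    · obtain ⟨m, hm⟩ := h5
      rw [hm, pow_add, pow_mul, hc2, one_pow, one_mul, pow_one]
  have h5 : ((AA h ^ k : GL (Fin 2) F) : M2 F) ^ p = c • 1 := by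
    rw [← Units.val_pow_eq_pow_val, ← pow_mul, mul_comm k p]; exact h4
  obtain ⟨N, hN⟩ : ∃ N : M2 F, N = ((AA h ^ k : GL (Fin 2) F) : M2 F) - c • 1 := ⟨_, rfl⟩
  have hNp : N ^ p = 0 := by
    rw [hN, sub_pow_char_of_commute p ((Commute.one_right _).smul_right c), h5, smul_pow, one_pow, hcp, sub_self]
  have hdet : N.det = 0 := by
    have h6 : N.det ^ p = 0 := by rw [← det_pow, hNp, det_zero]
    exact pow_eq_zero_iff (hp.out.ne_zero) |>.1 h6
  have hNe : N = (α - c) • (1 : M2 F) + β • (AA h : M2 F) := by rw [hN, e, sub_smul]; abel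
  have hdet2 : (α - c) ^ 2 + (α - c) * β * τ + β ^ 2 * ν = 0 := by
    rw [← hdet, hNe, AA_val, comp, Matrix.det_fin_two]
    simp
    ring
  have hβ : β = 0 := by
    by_contra hb
    apply h.irr (-(α - c) / β)
    field_simp
    linear_combination hdet2
  have hα : α = c := by
    rw [hβ] at hdet2
    have h6 : (α - c) ^ 2 = 0 := by linear_combination hdet2
    rw [sq] at h6
    exact sub_eq_zero.1 (mul_self_eq_zero.1 h6)
  rw [hβ, hα, zero_smul, add_zero] at e
  have h6 : mm (AA h ^ k) = scal c hc2 := by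
    apply Subtype.ext
    rw [mm_val]
    have h7 : (((AA h ^ k)⁻¹ : GL (Fin 2) F) : M2 F) = c • 1 := by
      have h8 : ((AA h ^ k : GL (Fin 2) F) : M2 F) * (c • 1) = 1 := by
        rw [e, smul_mul_smul_comm, mul_one, ← sq, hc2, one_smul]
      calc (((AA h ^ k)⁻¹ : GL (Fin 2) F) : M2 F) = (((AA h ^ k)⁻¹ : GL (Fin 2) F) : M2 F) * (((AA h ^ k : GL (Fin 2) F) : M2 F) * (c • 1)) := by
              rw [h8, mul_one]
        _ = _ := by rw [← mul_assoc, inv_mul_coe, one_mul]
    rw [h7, e, transpose_smul, transpose_one]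
    show _ = c • (1 : Matrix (Fin 2 ⊕ Fin 2) (Fin 2 ⊕ Fin 2) F)
    rw [← fromBlocks_one, fromBlocks_smul, smul_zero]
  show (QuotientGroup.mk (mm (AA h) ^ k) : Cfsg.PSp 2 F) = 1
  rw [← mm_pow, h6, QuotientGroup.eq_one_iff, mem_center_iff]
  exact ⟨c, hc2, scal_mulVec c hc2⟩

theorem final [Fintype F] {p : ℕ} [hp : Fact p.Prime] [CharP F p] (h3 : 3 ≤ Fintype.card F) :
    ∃ x : Cfsg.PSp 2 F, ¬ p ∣ orderOf x ∧ ∀ g : Cfsg.PSp 2 F, g ≠ 1 → ∃ u v : Cfsg.PSp 2 F, g = (u * x * u⁻¹) * (v * x * v⁻¹) := by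
  obtain ⟨τ, ν, h⟩ := exists_par h3
  refine ⟨QuotientGroup.mk (mm (AA h)), order_prime h, ?_⟩
  intro g hg
  obtain ⟨g, rfl⟩ := QuotientGroup.mk_surjective g
  have hy : ∃ y : V4 F, ∀ c : F, g.1 *ᵥ y ≠ c • y := by
    by_contra hcon
    push Not at hcon
    apply hg
    rw [QuotientGroup.eq_one_iff, Subgroup.mem_center_iff]
    obtain ⟨a, ha⟩ := (Matrix.toLin' g.1).exists_eq_smul_id_of_forall_notLinearIndependent fun v => by
      obtain ⟨c, hc⟩ := hcon v
      intro hli
      rw [LinearIndependent.pair_iff] at hli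
      have := hli (-c) 1 (by
        rw [Matrix.toLin'_apply, hc, neg_smul, one_smul, neg_add_cancel])
      exact one_ne_zero this.2
    have ha' : ∀ u, g.1 *ᵥ u = a • u := fun u => by
      have := congrArg (fun L => L u) ha
      simpa using this
    intro k
    apply ext_mulVec
    intro u
    rw [coe_mul_mulVec, coe_mul_mulVec, ha', ha', Matrix.mulVec_smul]
  obtain ⟨y, hy⟩ := hy
  obtain ⟨c, hc, u, v, e⟩ := main h h3 hy
  refine ⟨QuotientGroup.mk u, QuotientGroup.mk v, ?_⟩
  have h1 : (QuotientGroup.mk g : Cfsg.PSp 2 F) = QuotientGroup.mk (scal c hc * g) := by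
    have h2 : (QuotientGroup.mk (scal c hc) : Cfsg.PSp 2 F) = 1 := by
      rw [QuotientGroup.eq_one_iff, mem_center_iff]
      exact ⟨c, hc, scal_mulVec c hc⟩
    rw [QuotientGroup.mk_mul, h2, one_mul]
  rw [h1, e]
  rfl

end H50.PSpSq
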